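import Groth.Agent.AlgStLib.LocQCalc

/-!
# Base change of a chart, with both projections
-/

set_option backward.isDefEq.respectTransparency false
set_option backward.isDefEq.respectTransparency.types false

universe u

open CategoryTheory CategoryTheory.Functor CategoryTheory.Limits AlgebraicGeometry Opposite AlgSp
open Groth.Agent.FibBase Groth.Agent.AlgSpLib

namespace Groth.Agent.AlgStLib

variable {S : Scheme.{u}} {𝒳 𝒴 𝒴' : AlgSt.Cat S}

/-- Base change of a chart. -/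
theorem exists_chart_baseChange' (h𝒳 : FibCat.IsFibGrpd 𝒳.p) (h𝒴 : FibCat.IsFibGrpd 𝒴.p) {f : 𝒳 ⥤ᵇ 𝒴}
    {g : 𝒴' ⥤ᵇ 𝒴} {U V V' : AlgSp.Space S} {y : AlgSt.ofSp V.obj ⥤ᵇ 𝒴} {y' : AlgSt.ofSp V'.obj ⥤ᵇ 𝒴'}
    {k : V'.obj ⟶ V.obj} (β : BasedFunctor.comp y' g ≅ BasedFunctor.comp (AlgSt.ofSpMap k) y)
    (c : AlgSt.ofSp U.obj ⥤ᵇ FibCat.fp f y) :
    ∃ (D : AlgSp.Space S) (p : D.obj ⟶ U.obj) (q : D.obj ⟶ V'.obj)
      (c' : AlgSt.ofSp D.obj ⥤ᵇ FibCat.fp (FibCat.fpFst g f) y'),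
      IsPullback p q (spHom (BasedFunctor.comp c (FibCat.fpSnd f y))) k ∧
      spHom (BasedFunctor.comp c' (FibCat.fpSnd (FibCat.fpFst g f) y')) = q ∧
      Nonempty (BasedFunctor.comp (BasedFunctor.comp c' (FibCat.fpFst (FibCat.fpFst g f) y')) (FibCat.fpSnd g f) ≅
        BasedFunctor.comp (AlgSt.ofSpMap p) (BasedFunctor.comp c (FibCat.fpFst f y))) ∧
      (AlgSt.RepByAlgSpWith (LocP @Smooth) c → AlgSt.RepByAlgSpWith (LocP @Smooth) c') ∧
      (AlgSt.RepByAlgSpWith IsSurjectiveMor c → AlgSt.RepByAlgSpWith IsSurjectiveMor c') := by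
  let h := spHom (BasedFunctor.comp c (FibCat.fpSnd f y))
  let D : AlgSp.Space S := ⟨pullback h k, isAlgSpace_pullback U.property V'.property V.property _ _⟩
  obtain ⟨E, hE, ⟨jf⟩, ⟨je⟩⟩ := exists_spCone (IsPullback.of_hasPullback h k)
  have : (BasedFunctor.id (AlgSt.ofSp V.obj)).toFunctor.Full := inferInstanceAs (𝟭 _).Full
  have : (BasedFunctor.id (AlgSt.ofSp V.obj)).toFunctor.Faithful := inferInstanceAs (𝟭 _).Faithful
  have : (BasedFunctor.id 𝒴).toFunctor.Full := inferInstanceAs (𝟭 _).Full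
  have : (BasedFunctor.id 𝒴).toFunctor.Faithful := inferInstanceAs (𝟭 _).Faithful
  let m := fpMap (F := BasedFunctor.comp c (FibCat.fpSnd f y)) (G := AlgSt.ofSpMap k) (F' := AlgSt.ofSpMap h)
    (G' := AlgSt.ofSpMap k) (a := BasedFunctor.id _) (b := BasedFunctor.id _) (c := BasedFunctor.id _)
    (isoOfSpMap (BasedFunctor.comp c (FibCat.fpSnd f y))) (Iso.refl _)
  let E₁ := BasedFunctor.comp E m
  have hE₁ : FibCat.IsEquivOver E₁ := isEquivOver_comp hE (fpMap_isEquivOver _ _ isEquivOver_id isEquivOver_id)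
  obtain ⟨i₁, hi₁, -, ⟨j₁⟩⟩ := isEquivOver_inv (pasteVert_isEquivOver c (FibCat.fpSnd f y) (AlgSt.ofSpMap k))
  let G := FibCat.fpSnd c (FibCat.fpFst (FibCat.fpSnd f y) (AlgSt.ofSpMap k))
  let m₂ := fpMap (F := f) (G := BasedFunctor.comp y' g) (F' := f)
    (G' := BasedFunctor.comp (AlgSt.ofSpMap k) y) (a := BasedFunctor.id _) (b := BasedFunctor.id _)
    (c := BasedFunctor.id _) (Iso.refl _) β.symm
  obtain ⟨i₂, hi₂, -, ⟨j₂⟩⟩ := isEquivOver_inv (pasteVert_isEquivOver y' g f)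
  let tail := BasedFunctor.comp (pasteHor f (AlgSt.ofSpMap k) y)
    (BasedFunctor.comp m₂ (BasedFunctor.comp (fpSwap f (BasedFunctor.comp y' g))
      (BasedFunctor.comp i₂ (fpSwap y' (FibCat.fpFst g f)))))
  have htail : FibCat.IsEquivOver tail := isEquivOver_comp (pasteHor_isEquivOver _ _ _)
    (isEquivOver_comp (fpMap_isEquivOver _ _ isEquivOver_id isEquivOver_id)
      (isEquivOver_comp (fpSwap_isEquivOver _ _) (isEquivOver_comp hi₂ (fpSwap_isEquivOver _ _))))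
  refine ⟨D, pullback.fst h k, pullback.snd h k,
    BasedFunctor.comp (BasedFunctor.comp (BasedFunctor.comp E₁ i₁) G) tail, IsPullback.of_hasPullback h k, ?_, ?_,
    fun hc => repByAlgSpWith_postcomp htail (repByAlgSpWith_precomp (isEquivOver_comp hE₁ hi₁)
      (repByAlgSpWith_fpSnd _ hc)),
    fun hc => repByAlgSpWith_postcomp htail (repByAlgSpWith_precomp (isEquivOver_comp hE₁ hi₁)
      (repByAlgSpWith_fpSnd _ hc))⟩
  let i : BasedFunctor.comp (BasedFunctor.comp (BasedFunctor.comp (BasedFunctor.comp E₁ i₁) G) tail)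
      (FibCat.fpSnd (FibCat.fpFst g f) y') ≅ BasedFunctor.comp E (FibCat.fpSnd _ _) :=
    whiskerRightIso (whiskerLeftIso (BasedFunctor.comp (BasedFunctor.comp (BasedFunctor.comp E₁ i₁) G)
        (BasedFunctor.comp (pasteHor f (AlgSt.ofSpMap k) y)
          (BasedFunctor.comp m₂ (fpSwap f (BasedFunctor.comp y' g))))) j₂)
        (FibCat.fpFst (BasedFunctor.comp y' g) f) ≪≫
      whiskerRightIso (whiskerLeftIso E₁ j₁)
        (FibCat.fpSnd (BasedFunctor.comp c (FibCat.fpSnd f y)) (AlgSt.ofSpMap k))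
  rw [spHom_congr i, spHom_congr je, spHom_ofSpMap]
  · let pre := BasedFunctor.comp (BasedFunctor.comp (BasedFunctor.comp E₁ i₁) G)
      (BasedFunctor.comp (pasteHor f (AlgSt.ofSpMap k) y)
        (BasedFunctor.comp m₂ (fpSwap f (BasedFunctor.comp y' g))))
    exact ⟨whiskerRightIso (whiskerLeftIso pre j₂) (FibCat.fpSnd (BasedFunctor.comp y' g) f) ≪≫
      whiskerRightIso (whiskerLeftIso (BasedFunctor.comp E₁ i₁)
        (FibCat.fpIso c (FibCat.fpFst (FibCat.fpSnd f y) (AlgSt.ofSpMap k))).symm) (FibCat.fpFst f y) ≪≫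
      whiskerRightIso (whiskerRightIso (whiskerLeftIso E₁ j₁)
        (FibCat.fpFst (BasedFunctor.comp c (FibCat.fpSnd f y)) (AlgSt.ofSpMap k)))
        (BasedFunctor.comp c (FibCat.fpFst f y)) ≪≫
      whiskerRightIso jf (BasedFunctor.comp c (FibCat.fpFst f y))⟩

end Groth.Agent.AlgStLib
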