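import Groth.Agent.AlgStLib.DiagLFT
import Groth.Agent.AlgSpLib.LocalSourceInst

/-! # The diagonal of a Deligne–Mumford stack is unramified -/

set_option autoImplicit false
set_option backward.isDefEq.respectTransparency false
set_option backward.isDefEq.respectTransparency.types false

universe u

open CategoryTheory CategoryTheory.Functor CategoryTheory.Limits AlgebraicGeometry Opposite AlgSp

namespace Groth.Agent.AlgStLib

open Groth.Agent.FibBase Groth.Agent.AlgSpLib

variable {S : Scheme.{u}} {𝒳 : AlgSt.Cat S}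

/-- A stack with representable diagonal and an etale atlas has unramified diagonal. -/
theorem repByAlgSpWith_unr_diag_toSelf (hΔ : AlgSt.RepByAlgSp1 (FibCat.diag (FibCat.toSelf 𝒳)))
    (hA : AlgSt.HasAtlas IsEtaleMor 𝒳) :
    AlgSt.RepByAlgSpWith (unr (S := S)) (FibCat.diag (FibCat.toSelf 𝒳)) := by
  obtain ⟨U, p, hp, hp'⟩ := hA
  let t := FibCat.toSelf 𝒳
  have hsm : AlgSt.RepByAlgSpWith (LocP @Smooth) p :=
    repByAlgSpWith_mono (fun _ _ _ h => locP_mono (Q := @Smooth)
      (fun _ _ f (_ : Etale f) => inferInstanceAs (Smooth f)) (locP_etale_of_isEtaleMor h)) hp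
  have hu : AlgSt.RepByAlgSpWith (unr (S := S)) p :=
    repByAlgSpWith_mono (fun _ _ _ h => locP_mono (Q := @LocallyOfFiniteType ⊓ @FormallyUnramified)
      (fun _ _ f (_ : Etale f) => ⟨inferInstanceAs (LocallyOfFiniteType f), inferInstanceAs (FormallyUnramified f)⟩)
      (locP_etale_of_isEtaleMor h)) hp
  have hfst : AlgSt.RepByAlgSp1 (FibCat.fpFst (BasedFunctor.comp p t) (BasedFunctor.comp p t)) :=
    repByAlgSp1_fpFst _ (repByAlgSp1_congr (comp_toSelf p) (repByAlgSp1_toSelf_overCat U))
  have hweak : AlgSt.RepByAlgSpWith (unr (S := S)) (weaken p p t) :=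
    repByAlgSpWith_of_comp stableBC_locP cancels_unr (repByAlgSp1_iff_top.1 hfst) (repByAlgSpWith_fpFst p hu)
  have hes := locEssSurj_of_atlas hsm hp'
  exact repByAlgSpWith_of_locEssSurj stableBC_locP isLocalOnBase_unr hΔ (locEssSurj_pairMap t hes hes)
    ((repByAlgSpWith_iff_of_square (f' := weaken p p t) (f := FibCat.fpFst (pairMap p p t) (FibCat.diag t))
      (a := diagComparison p p t) (b := BasedFunctor.id _) (diagComparison_isEquivOver p p t) isEquivOver_id
      (Iso.refl _)).2 hweak)

end Groth.Agent.AlgStLib
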