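import Groth.Agent.AlgStLib.MonoLift
import Groth.Agent.AlgStLib.SpProps
import Groth.Agent.AlgSpLib.LocalBaseTop
import Groth.Agent.AlgSpDec.LimAffineBase
import Groth.Agent.AlgSpPts.OpenSub
import Groth.Agent.FibBase.DiagRep

/-!
# Quasi-compactness of the diagonal from automorphisms and generic isomorphisms
-/

set_option backward.isDefEq.respectTransparency false
set_option backward.isDefEq.respectTransparency.types false

universe u

open CategoryTheory CategoryTheory.Functor CategoryTheory.Limits AlgebraicGeometry Opposite AlgSp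

namespace Groth.Agent.AlgStLib

open Groth.Agent.FibBase Groth.Agent.AlgSpLib

variable {S : Scheme.{u}} {𝒳 𝒵 : AlgSt.Cat S}

local notation "τ₀" => FibCat.toSelf 𝒳
local notation "Δ₀" => FibCat.diag (FibCat.toSelf 𝒳)

/-- Functors into the self product are isomorphic when their components are. -/
def prodIso {y y' : 𝒵 ⥤ᵇ FibCat.fp τ₀ τ₀}
    (i : BasedFunctor.comp y (FibCat.fpFst τ₀ τ₀) ≅ BasedFunctor.comp y' (FibCat.fpFst τ₀ τ₀))
    (j : BasedFunctor.comp y (FibCat.fpSnd τ₀ τ₀) ≅ BasedFunctor.comp y' (FibCat.fpSnd τ₀ τ₀)) : y ≅ y' :=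
  BasedNatIso.mkNatIso
    (NatIso.ofComponents
      (fun x => fpIsoMk (x := y.obj x) (y := y'.obj x) (isoApp i x) (isoApp j x)
        (self_w _ _ (𝒵.p.obj x) (isoApp_lift i rfl) (isoApp_lift j rfl)))
      (fun {x x'} φ => by
        refine ObjectProperty.hom_ext _ (CategoricalPullback.hom_ext ?_ ?_)
        · exact natural i φ
        · exact natural j φ))
    (fun x => fp_isHomLift (F := τ₀) (G := τ₀) (𝟙 (𝒵.p.obj x)) _ (h := isoApp_lift i (a := x) rfl))

/-- The pair of two objects. -/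
def pairObj (a b : 𝒵 ⥤ᵇ 𝒳) : 𝒵 ⥤ᵇ FibCat.fp τ₀ τ₀ := FibCat.fpLift a b (selfIso _ _)

/-- First component of a restricted pair. -/
def pairObjPullFst {V W : Over S} (v : V ⟶ W) (a b : FibCat.overCat W ⥤ᵇ 𝒳) :
    BasedFunctor.comp (pairObj (BasedFunctor.comp (AlgSt.overMap v) a) (BasedFunctor.comp (AlgSt.overMap v) b))
        (FibCat.fpFst τ₀ τ₀) ≅
      BasedFunctor.comp (BasedFunctor.comp (AlgSt.overMap v) (pairObj a b)) (FibCat.fpFst τ₀ τ₀) :=
  Iso.refl _

/-- Second component of a restricted pair. -/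
def pairObjPullSnd {V W : Over S} (v : V ⟶ W) (a b : FibCat.overCat W ⥤ᵇ 𝒳) :
    BasedFunctor.comp (pairObj (BasedFunctor.comp (AlgSt.overMap v) a) (BasedFunctor.comp (AlgSt.overMap v) b))
        (FibCat.fpSnd τ₀ τ₀) ≅
      BasedFunctor.comp (BasedFunctor.comp (AlgSt.overMap v) (pairObj a b)) (FibCat.fpSnd τ₀ τ₀) :=
  Iso.refl _

/-- A point of a scheme over which a pair of objects has an isomorphism. -/
theorem exists_isoms_of_pt {V T : Over S} {a b : FibCat.overCat V ⥤ᵇ 𝒳} {F : Sp S}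
    (e : AlgSt.ofSp F ⥤ᵇ FibCat.fp (pairObj a b) Δ₀) (τ : (yon S).obj T ⟶ F) (g : T ⟶ V)
    (h : τ ≫ AlgSt.spMapOfOver (BasedFunctor.comp e (FibCat.fpFst (pairObj a b) Δ₀)) = (yon S).map g) :
    Nonempty (BasedFunctor.comp (AlgSt.overMap g) a ≅ BasedFunctor.comp (AlgSt.overMap g) b) := by
  obtain ⟨z, ⟨i⟩⟩ := exists_lift_of_pt e τ g h
  exact ⟨(whiskerRightIso i (FibCat.fpFst τ₀ τ₀)).symm ≪≫ whiskerRightIso i (FibCat.fpSnd τ₀ τ₀)⟩

/-- Isomorphism loci are compact over closed subsets of an affine Noetherian chart. -/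
theorem isCompact_isom_piece [IsLocallyNoetherian S]
    (hi : ∀ (U : Over S), IsAffine U.left → ∀ (x : FibCat.overCat U ⥤ᵇ 𝒳),
      RepOver IsQuasiCompactMor (FibCat.fpFst (FibCat.fpLift x x (Iso.refl _)) Δ₀))
    (hii : ∀ (U : Over S), IsAffine U.left → IsIntegral U.left → ∀ (x y : FibCat.overCat U ⥤ᵇ 𝒳)
      (D : Set ↥U.left), Dense D →
      (∀ t ∈ D, ∃ (L : Type u) (_ : Field L) (g : Spec (CommRingCat.of L) ⟶ U.left), Set.range g.base = {t} ∧
        Nonempty (BasedFunctor.comp (AlgSt.overMap (Over.homMk g rfl : Over.mk (g ≫ U.hom) ⟶ U)) x ≅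
          BasedFunctor.comp (AlgSt.overMap (Over.homMk g rfl : Over.mk (g ≫ U.hom) ⟶ U)) y)) →
      ∃ V : U.left.Opens, Dense (V : Set ↥U.left) ∧
        Nonempty (BasedFunctor.comp (AlgSt.overMap (Over.homMk V.ι rfl : Over.mk (V.ι ≫ U.hom) ⟶ U)) x ≅
          BasedFunctor.comp (AlgSt.overMap (Over.homMk V.ι rfl : Over.mk (V.ι ≫ U.hom) ⟶ U)) y))
    {R : CommRingCat.{u}} [IsNoetherianRing R] (sR : Spec R ⟶ S) (a b : FibCat.overCat (Over.mk sR) ⥤ᵇ 𝒳)
    (F : AlgSp.Space S) (e : AlgSt.ofSp F.obj ⥤ᵇ FibCat.fp (pairObj a b) Δ₀) (he : FibCat.IsEquivOver e)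
    (I : Ideal R) :
    IsCompact {z : Points F.obj | ∃ q : PrimeSpectrum R, I ≤ q.asIdeal ∧
      Points.map (AlgSt.spMapOfOver (BasedFunctor.comp e (FibCat.fpFst (pairObj a b) Δ₀))) z =
        Points.ofScheme (Over.mk sR) q} := by
  classical
  let α := AlgSt.spMapOfOver (BasedFunctor.comp e (FibCat.fpFst (pairObj a b) Δ₀))
  refine IsWellFounded.induction (· > ·) I (motive := fun I : Ideal R =>
    IsCompact {z : Points F.obj | ∃ q : PrimeSpectrum R, I ≤ q.asIdeal ∧
      Points.map α z = Points.ofScheme (Over.mk sR) q}) fun I ih => ?_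
  by_cases htop : I = ⊤
  · convert isCompact_empty
    exact Set.eq_empty_of_forall_notMem fun y ⟨q, hq, _⟩ => q.2.ne_top (top_le_iff.mp (htop ▸ hq))
  have hlt : ∀ c, c ∉ I → I < I ⊔ Ideal.span {c} := fun c hc => lt_of_le_of_ne le_sup_left fun e =>
    hc (e ▸ Ideal.mem_sup_right (Ideal.mem_span_singleton_self c))
  by_cases hI : I.IsPrime
  swap
  · obtain ⟨x, hx, y, hy, hxy⟩ := (Ideal.not_isPrime_iff.mp hI).resolve_left htop
    convert (ih _ (hlt x hx)).union (ih _ (hlt y hy)) using 1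
    ext z
    constructor
    · rintro ⟨q, hq, hqz⟩
      exact (q.2.mem_or_mem (hq hxy)).imp
        (fun h => ⟨q, sup_le hq ((Ideal.span_singleton_le_iff_mem _).mpr h), hqz⟩)
        (fun h => ⟨q, sup_le hq ((Ideal.span_singleton_le_iff_mem _).mpr h), hqz⟩)
    · rintro (⟨q, hq, hqz⟩ | ⟨q, hq, hqz⟩) <;> exact ⟨q, le_sup_left.trans hq, hqz⟩
  -- the closed integral subscheme of the prime
  let i : Spec (CommRingCat.of (R ⧸ I)) ⟶ Spec R := Spec.map (CommRingCat.ofHom (Ideal.Quotient.mk I))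
  let Vi : Over S := Over.mk (i ≫ sR)
  let ji : Vi ⟶ Over.mk sR := Over.homMk i rfl
  let ai := BasedFunctor.comp (AlgSt.overMap ji) a
  let bi := BasedFunctor.comp (AlgSt.overMap ji) b
  have hri : ∀ p : PrimeSpectrum (R ⧸ I), I ≤ (show PrimeSpectrum R from i p).asIdeal := fun p z hz => by
    show Ideal.Quotient.mk I z ∈ p.asIdeal
    rw [Ideal.Quotient.eq_zero_iff_mem.mpr hz]
    exact zero_mem _
  have his : ∀ q : PrimeSpectrum R, I ≤ q.asIdeal → ∃ p : PrimeSpectrum (R ⧸ I), i p = q := fun q hq => by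
    obtain ⟨p, hp⟩ := Groth.Agent.S15349.exists_comap_eq hq
    exact ⟨p, PrimeSpectrum.ext hp⟩
  let D : Set ↥Vi.left := {p | ∃ z, Points.map α z = Points.ofScheme (Over.mk sR) (i p)}
  obtain ⟨c, hc0, K, hK, hKi, hKc⟩ : ∃ c : R ⧸ I, c ≠ 0 ∧ ∃ K : Set (Points F.obj), IsCompact K ∧
      (∀ z ∈ K, ∃ p : PrimeSpectrum (R ⧸ I), Points.map α z = Points.ofScheme (Over.mk sR) (i p)) ∧
      ∀ p : PrimeSpectrum (R ⧸ I), c ∉ p.asIdeal → ∀ z,
        Points.map α z = Points.ofScheme (Over.mk sR) (i p) → z ∈ K := by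
    by_cases hD : Dense D
    · have hisom : ∀ t ∈ D, ∃ (L : Type u) (_ : Field L) (g : Spec (CommRingCat.of L) ⟶ Vi.left),
          Set.range g.base = {t} ∧
          Nonempty (BasedFunctor.comp (AlgSt.overMap (Over.homMk g rfl : Over.mk (g ≫ Vi.hom) ⟶ Vi)) ai ≅
            BasedFunctor.comp (AlgSt.overMap (Over.homMk g rfl : Over.mk (g ≫ Vi.hom) ⟶ Vi)) bi) := by
        rintro t ⟨z, hz⟩
        obtain ⟨T, τ, x, hT, rfl⟩ : ∃ (p : FieldPt F.obj) (τ : (yon S).obj p.pt ⟶ F.obj) (x : ↥p.pt.left),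
            Subsingleton ↥p.pt.left ∧ Points.ofPt τ x = z := by
          induction z using Points.ind with
          | h p => exact ⟨p, p.toHom, IsLocalRing.closedPoint p.K,
              inferInstanceAs (Subsingleton (PrimeSpectrum p.K)), Points.ofPt_toHom p _⟩
        obtain ⟨k, hk⟩ := (yon S).map_surjective (τ ≫ α)
        have hkx : (show PrimeSpectrum R from k.left x) = i t := by
          refine (Points.schemeHomeo (Over.mk sR)).injective ?_
          change Points.ofScheme (Over.mk sR) (k.left x) = Points.ofScheme (Over.mk sR) (i t)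
          rw [← hz, Points.map_ofPt, ← hk]
          exact ((ofPt_comp k (𝟙 _) x).symm.trans (by rw [Category.comp_id]))
        -- the map to the field kills the prime
        have hker : ∀ r ∈ I, (Spec.preimage k.left).hom r = 0 := fun r hr => by
          have hmem : r ∈ (show PrimeSpectrum R from k.left x).asIdeal := hkx ▸ hri t hr
          rw [← Spec.map_preimage k.left] at hmem
          have hx0 : x = (⊥ : PrimeSpectrum T.K) := hT.elim _ _
          subst hx0
          exact hmem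
        let ψ : R ⧸ I →+* T.K := Ideal.Quotient.lift I (Spec.preimage k.left).hom hker
        let g : Spec (CommRingCat.of T.K) ⟶ Vi.left := Spec.map (CommRingCat.ofHom ψ)
        have hg : g ≫ i = k.left := by
          show Spec.map _ ≫ Spec.map _ = _
          rw [← Spec.map_comp, ← Spec.map_preimage k.left]
          congr 1
        refine ⟨T.K, inferInstance, g, ?_, ?_⟩
        · refine Set.eq_singleton_iff_unique_mem.2 ⟨⟨x, ?_⟩, ?_⟩
          · refine PrimeSpectrum.comap_injective_of_surjective _ Ideal.Quotient.mk_surjective ?_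
            exact ((Scheme.Hom.comp_apply g i x).symm.trans (congrArg (fun m => m x) hg)).trans hkx
          · rintro _ ⟨x', rfl⟩
            obtain rfl : x' = x := hT.elim _ _
            refine PrimeSpectrum.comap_injective_of_surjective _ Ideal.Quotient.mk_surjective ?_
            exact ((Scheme.Hom.comp_apply g i x').symm.trans (congrArg (fun m => m x') hg)).trans hkx
        · let gO : Over.mk (g ≫ Vi.hom) ⟶ Vi := Over.homMk g rfl
          have hstr : g ≫ Vi.hom = T.str := by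
            show g ≫ i ≫ sR = T.str
            rw [← Category.assoc, hg]
            exact Over.w k
          let E : Over.mk (g ≫ Vi.hom) ⟶ T.pt := Over.homMk (𝟙 _) (by
            show 𝟙 _ ≫ T.str = g ≫ Vi.hom
            rw [Category.id_comp, hstr])
          obtain ⟨iab⟩ := exists_isoms_of_pt e ((yon S).map E ≫ τ) (gO ≫ ji) (by
            rw [Category.assoc, show τ ≫ AlgSt.spMapOfOver _ = (yon S).map k from hk.symm, ← Functor.map_comp]
            congr 1
            refine Over.OverMorphism.ext ?_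
            show 𝟙 _ ≫ k.left = g ≫ i
            rw [Category.id_comp, hg])
          exact ⟨whiskerRightIso (overMapCompIso gO ji) a ≪≫ iab ≪≫
            (whiskerRightIso (overMapCompIso gO ji) b).symm⟩
      haveI : Nonempty ↥Vi.left := inferInstanceAs (Nonempty (PrimeSpectrum (R ⧸ I)))
      obtain ⟨Vo, hVo, ⟨iab⟩⟩ := hii Vi (inferInstanceAs (IsAffine (Spec (CommRingCat.of (R ⧸ I)))))
        (inferInstanceAs (IsIntegral (Spec (CommRingCat.of (R ⧸ I))))) ai bi D hD hisom
      obtain ⟨p₀, hp₀⟩ := hVo.nonempty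
      obtain ⟨_, ⟨c, rfl⟩, hcp, hcV⟩ :=
        PrimeSpectrum.isTopologicalBasis_basic_opens.exists_subset_of_mem_open hp₀ Vo.2
      let W : (Spec (CommRingCat.of (R ⧸ I))).Opens := PrimeSpectrum.basicOpen c
      have hW : W ≤ Vo := hcV
      have hWa : IsAffineOpen W := by
        rw [show W = (Spec (CommRingCat.of (R ⧸ I))).basicOpen ((Scheme.ΓSpecIso _).inv c) from
          (basicOpen_eq_of_affine c).symm]
        exact (isAffineOpen_top _).basicOpen _
      let Vc : Over S := Over.mk (W.ι ≫ i ≫ sR)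
      haveI hVc : IsAffine Vc.left := hWa
      let jc : Vc ⟶ Over.mk (Vo.ι ≫ Vi.hom) := Over.homMk ((Spec (CommRingCat.of (R ⧸ I))).homOfLE hW) (by
        show (Spec (CommRingCat.of (R ⧸ I))).homOfLE hW ≫ Vo.ι ≫ i ≫ sR = W.ι ≫ i ≫ sR
        rw [Scheme.homOfLE_ι_assoc])
      let jW : Vc ⟶ Vi := Over.homMk W.ι rfl
      have hj : jc ≫ (Over.homMk Vo.ι rfl : Over.mk (Vo.ι ≫ Vi.hom) ⟶ Vi) = jW :=
        Over.OverMorphism.ext ((Spec (CommRingCat.of (R ⧸ I))).homOfLE_ι hW)
      let v : Vc ⟶ Over.mk sR := jW ≫ ji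
      let x := BasedFunctor.comp (AlgSt.overMap v) a
      have iV : BasedFunctor.comp (AlgSt.overMap v) a ≅ BasedFunctor.comp (AlgSt.overMap v) b := by
        refine (whiskerRightIso (overMapCompIso jW ji) a).symm ≪≫ ?_ ≪≫ whiskerRightIso (overMapCompIso jW ji) b
        rw [← hj]
        exact whiskerRightIso (overMapCompIso jc _).symm ai ≪≫ whiskerLeftIso (AlgSt.overMap jc) iab ≪≫
          whiskerRightIso (overMapCompIso jc _) bi
      have hR : RepOver IsQuasiCompactMor
          (FibCat.fpFst (BasedFunctor.comp (AlgSt.overMap v) (pairObj a b)) Δ₀) :=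
        repOver_congr (prodIso (y := FibCat.fpLift x x (Iso.refl _))
          (y' := BasedFunctor.comp (AlgSt.overMap v) (pairObj a b)) (Iso.refl _) iV) (hi Vc hVc x)
      have hP := property_pullback_of_repOver stableBC_isQuasiCompactMor v (pairObj a b) F.property e he hR
      haveI := compactSpace_points (AlgSpDec.isQuasiCompactSp_of_mor (IsAlgSpace.yon_obj Vc) hP
        (isQuasiCompactSp_yon Vc))
      refine ⟨c, fun h0 => hcp (h0 ▸ Ideal.zero_mem _), Set.range (Points.map (pullback.fst α ((yon S).map v))),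
        isCompact_range (Points.continuous_map _), ?_, fun p hp z hz => ?_⟩
      · rintro _ ⟨w, rfl⟩
        obtain ⟨y, hy⟩ := (Points.schemeHomeo Vc).surjective (Points.map (pullback.snd α ((yon S).map v)) w)
        refine ⟨W.ι y, ?_⟩
        rw [← Points.map_comp, pullback.condition, Points.map_comp, ← hy]
        exact Points.map_yon_map_apply v y
      · obtain ⟨w, hw, -⟩ := exists_point_of_isPullback (IsPullback.of_hasPullback α ((yon S).map v))
          (x := z) (y := Points.ofScheme Vc ⟨p, hp⟩) (hz.trans (Points.map_yon_map_apply v ⟨p, hp⟩).symm)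
        exact ⟨w, hw⟩
    · obtain ⟨q, hq⟩ : ∃ q, q ∉ closure D := by
        by_contra hne
        push Not at hne
        exact hD (fun x => hne x)
      obtain ⟨_, ⟨c, rfl⟩, hqc, hcD⟩ :=
        PrimeSpectrum.isTopologicalBasis_basic_opens.exists_subset_of_mem_open hq isClosed_closure.isOpen_compl
      exact ⟨c, fun h0 => hqc (h0 ▸ Ideal.zero_mem _), ∅, isCompact_empty, fun z hz => hz.elim,
        fun p hp z hz => absurd (subset_closure (show p ∈ D from ⟨z, hz⟩)) (hcD hp)⟩
  obtain ⟨c, rfl⟩ := Ideal.Quotient.mk_surjective c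
  have hcI : c ∉ I := fun h => hc0 (Ideal.Quotient.eq_zero_iff_mem.mpr h)
  convert (ih _ (hlt c hcI)).union hK using 1
  ext z
  constructor
  · rintro ⟨q, hq, hqz⟩
    by_cases hcq : c ∈ q.asIdeal
    · exact Or.inl ⟨q, sup_le hq ((Ideal.span_singleton_le_iff_mem _).mpr hcq), hqz⟩
    · obtain ⟨p, rfl⟩ := his q hq
      exact Or.inr (hKc p (fun h => hcq h) z hqz)
  · rintro (⟨q, hq, hqz⟩ | hz)
    · exact ⟨q, le_sup_left.trans hq, hqz⟩
    · obtain ⟨p, hp⟩ := hKi z hz
      exact ⟨i p, hri p, hp⟩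

/-- The diagonal is quasi-compact if automorphisms are and isomorphisms spread generically. -/
theorem diag_isQuasiCompactMor [IsLocallyNoetherian S] {K : Precoverage Scheme.{u}}
    (h𝒳 : AlgSt.IsAlgStack K 𝒳)
    (hlfp : ∀ (U : Over S) (x : FibCat.overCat U ⥤ᵇ 𝒳),
      AlgSt.RepByAlgSpWith (LocP @Smooth) x → LocallyOfFinitePresentation U.hom)
    (hi : ∀ (U : Over S), IsAffine U.left → ∀ (x : FibCat.overCat U ⥤ᵇ 𝒳),
      RepOver IsQuasiCompactMor (FibCat.fpFst (FibCat.fpLift x x (Iso.refl _)) Δ₀))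
    (hii : ∀ (U : Over S), IsAffine U.left → IsIntegral U.left → ∀ (x y : FibCat.overCat U ⥤ᵇ 𝒳)
      (D : Set ↥U.left), Dense D →
      (∀ t ∈ D, ∃ (L : Type u) (_ : Field L) (g : Spec (CommRingCat.of L) ⟶ U.left), Set.range g.base = {t} ∧
        Nonempty (BasedFunctor.comp (AlgSt.overMap (Over.homMk g rfl : Over.mk (g ≫ U.hom) ⟶ U)) x ≅
          BasedFunctor.comp (AlgSt.overMap (Over.homMk g rfl : Over.mk (g ≫ U.hom) ⟶ U)) y)) →
      ∃ V : U.left.Opens, Dense (V : Set ↥U.left) ∧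
        Nonempty (BasedFunctor.comp (AlgSt.overMap (Over.homMk V.ι rfl : Over.mk (V.ι ≫ U.hom) ⟶ U)) x ≅
          BasedFunctor.comp (AlgSt.overMap (Over.homMk V.ι rfl : Over.mk (V.ι ≫ U.hom) ⟶ U)) y)) :
    AlgSt.RepByAlgSpWith IsQuasiCompactMor Δ₀ := by
  obtain ⟨U, p, hp, hp'⟩ := id h𝒳.atlas
  haveI := hlfp U p hp
  let W : Over S := Over.mk (pullback.fst U.hom U.hom ≫ U.hom)
  let pr₁ : W ⟶ U := Over.homMk (pullback.fst U.hom U.hom) rfl
  let pr₂ : W ⟶ U := Over.homMk (pullback.snd U.hom U.hom) pullback.condition.symm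
  haveI : LocallyOfFinitePresentation W.hom :=
    inferInstanceAs (LocallyOfFinitePresentation (pullback.fst U.hom U.hom ≫ U.hom))
  haveI : IsLocallyNoetherian W.left := LocallyOfFiniteType.isLocallyNoetherian W.hom
  let x₁ := BasedFunctor.comp (AlgSt.overMap pr₁) p
  let x₂ := BasedFunctor.comp (AlgSt.overMap pr₂) p
  have hes : LocEssSurj (pairObj x₁ x₂) := fun T y => by
    obtain ⟨R, hR, hz⟩ := locEssSurj_pairMap τ₀ (locEssSurj_of_atlas hp hp') (locEssSurj_of_atlas hp hp') T y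
    refine ⟨R, hR, fun V h hh => ?_⟩
    obtain ⟨z, ⟨iz⟩⟩ := hz h hh
    obtain ⟨k₁, ⟨j₁⟩⟩ := exists_mapB (BasedFunctor.comp z (FibCat.fpFst _ _))
    obtain ⟨k₂, ⟨j₂⟩⟩ := exists_mapB (BasedFunctor.comp z (FibCat.fpSnd _ _))
    let l : V ⟶ W := Over.homMk (pullback.lift k₁.left k₂.left ((Over.w k₁).trans (Over.w k₂).symm)) (by
      show _ ≫ pullback.fst U.hom U.hom ≫ U.hom = V.hom
      rw [pullback.lift_fst_assoc, Over.w k₁])
    have hl₁ : l ≫ pr₁ = k₁ := Over.OverMorphism.ext (pullback.lift_fst _ _ _)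
    have hl₂ : l ≫ pr₂ = k₂ := Over.OverMorphism.ext (pullback.lift_snd _ _ _)
    refine ⟨AlgSt.overMap l, ⟨prodIso (y := BasedFunctor.comp (AlgSt.overMap l) (pairObj x₁ x₂))
      (y' := BasedFunctor.comp z (pairMap p p τ₀)) ?_ ?_ ≪≫ iz⟩⟩
    · exact whiskerRightIso (overMapCompIso l pr₁) p ≪≫
        eqToIso (by rw [hl₁]; rfl) ≪≫ whiskerRightIso j₁ p
    · exact whiskerRightIso (overMapCompIso l pr₂) p ≪≫
        eqToIso (by rw [hl₂]; rfl) ≪≫ whiskerRightIso j₂ p
  have hloc := isLocalOnBase_fppf_of_fpqc (isLocalOnBase_fpqc_isQuasiCompactMor (S := S))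
  obtain ⟨F, e, he⟩ := h𝒳.diag W (pairObj x₁ x₂)
  let α := AlgSt.spMapOfOver (BasedFunctor.comp e (FibCat.fpFst (pairObj x₁ x₂) Δ₀))
  have hα : IsQuasiCompactMor α := by
    let V : W.left.affineOpens → Over S := fun A => Over.mk (A.2.fromSpec ≫ W.hom)
    let v : ∀ A, V A ⟶ W := fun A => Over.homMk A.2.fromSpec rfl
    have hcov := isFppfCover_yon_map V v (fun A => inferInstanceAs (Flat A.2.fromSpec))
      (fun A => inferInstanceAs (LocallyOfFinitePresentation A.2.fromSpec)) (fun w => by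
        obtain ⟨A, hA, hw, -⟩ := exists_isAffineOpen_mem_and_subset (U := (⊤ : W.left.Opens)) (x := w) trivial
        exact ⟨⟨A, hA⟩, by
          show w ∈ Set.range hA.fromSpec
          rw [hA.range_fromSpec]; exact hw⟩)
    refine (hloc _ _ (IsAlgSpace.yon_obj W) (fun A => IsAlgSpace.yon_obj _) hcov α F.property
      _ (fun A => pullback.snd _ _) (fun A => pullback.fst _ _)
      (fun A => isAlgSpace_pullback F.property (IsAlgSpace.yon_obj _) (IsAlgSpace.yon_obj _) _ _)
      (fun A => IsPullback.of_hasPullback _ _)).2 fun A => ?_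
    haveI : IsAffine (V A).left := inferInstanceAs (IsAffine (Spec Γ(W.left, A.1)))
    haveI : IsNoetherianRing Γ(W.left, A.1) := IsLocallyNoetherian.component_noetherian A
    let a := BasedFunctor.comp (AlgSt.overMap (v A)) x₁
    let b := BasedFunctor.comp (AlgSt.overMap (v A)) x₂
    obtain ⟨FA, eA, heA⟩ := h𝒳.diag (V A) (pairObj a b)
    haveI : CompactSpace (Points FA.obj) := ⟨by
      have h := isCompact_isom_piece hi hii (A.2.fromSpec ≫ W.hom) a b FA eA heA ⊥
      convert h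
      refine (Set.eq_univ_of_forall fun z => ?_).symm
      obtain ⟨q, hq⟩ := (Points.schemeHomeo (V A)).surjective
        (Points.map (AlgSt.spMapOfOver (BasedFunctor.comp eA (FibCat.fpFst (pairObj a b) Δ₀))) z)
      exact ⟨q, bot_le, hq.symm⟩⟩
    have hqA : IsQuasiCompactMor (AlgSt.spMapOfOver (BasedFunctor.comp eA (FibCat.fpFst (pairObj a b) Δ₀))) :=
      AlgSpPts.isQuasiCompactMor_of_qc_qs FA.property (IsAlgSpace.yon_obj _)
        (isQuasiCompactSp_of_compactSpace FA.property)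
        ((AlgSpDec.isQuasiSeparatedSp_yon_iff' _).2 (AlgSpDec.quasiSeparated_hom_of_affine _)) _
    let y₁ : FibCat.overCat (V A) ⥤ᵇ FibCat.fp τ₀ τ₀ := BasedFunctor.comp (AlgSt.overMap (v A)) (pairObj x₁ x₂)
    have i₁ : BasedFunctor.comp (pairObj a b) (FibCat.fpFst τ₀ τ₀) ≅ BasedFunctor.comp y₁ (FibCat.fpFst τ₀ τ₀) :=
      pairObjPullFst (v A) x₁ x₂
    have i₂ : BasedFunctor.comp (pairObj a b) (FibCat.fpSnd τ₀ τ₀) ≅ BasedFunctor.comp y₁ (FibCat.fpSnd τ₀ τ₀) :=
      pairObjPullSnd (v A) x₁ x₂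
    have hR₀ : RepOver IsQuasiCompactMor (FibCat.fpFst (pairObj a b) Δ₀) := ⟨FA, eA, heA, hqA⟩
    have hR₁ : RepOver IsQuasiCompactMor (FibCat.fpFst y₁ Δ₀) := repOver_congr (prodIso i₁ i₂) hR₀
    exact property_pullback_of_repOver stableBC_isQuasiCompactMor (v A) (pairObj x₁ x₂) F.property e he hR₁
  exact repByAlgSpWith_of_locEssSurj stableBC_isQuasiCompactMor hloc h𝒳.diag hes
    ((repByAlgSpWith_iff_of_square (f := FibCat.fpFst (pairObj x₁ x₂) Δ₀) (f' := AlgSt.ofSpMap α) (a := e)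
      (b := AlgSt.toOverCat W) he (isEquivOver_toOverCat W) (isoSpMapOfOver _).symm).2
      (repByAlgSpWith_ofSpMap stableBC_isQuasiCompactMor F.property (IsAlgSpace.yon_obj W) α hα))

end Groth.Agent.AlgStLib
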