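import Groth.Agent.AlgStLib.TrivStab
import Groth.Agent.AlgStLib.DMDiag
import Groth.Agent.AlgStLib.Charts
import Groth.Agent.AlgStLib.GeomLift
import Groth.Agent.AlgStLib.Imm
import Groth.Agent.AlgStLib.Small
import Groth.Agent.AlgStLib.QuasiCompact
import Groth.Agent.AlgStLib.SepUnivClosed

/-! # Endomorphisms of a functor into a stack with unramified separated diagonal -/

set_option autoImplicit false
set_option backward.isDefEq.respectTransparency false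
set_option backward.isDefEq.respectTransparency.types false

universe u

open CategoryTheory CategoryTheory.Functor CategoryTheory.Limits AlgebraicGeometry Opposite AlgSp
  Groth.Agent.FibBase Groth.Agent.IsoNatLib Groth.Agent.AlgSpLib

namespace Groth.Agent.AlgStLib

variable {S : Scheme.{u}} {𝒳 𝒴 : AlgSt.Cat S} {F : 𝒳 ⥤ᵇ 𝒴}

/-- The component of an endomorphism. -/
abbrev comp1 (α : F ⟶ F) (ξ : 𝒳.obj) : F.obj ξ ⟶ F.obj ξ := α.toNatTrans.app ξ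

theorem comp1_lift (α : F ⟶ F) (ξ : 𝒳.obj) : 𝒴.p.IsHomLift (𝟙 (𝒳.p.obj ξ)) (comp1 α ξ) :=
  BasedNatTrans.isHomLift α rfl

theorem comp1_natural (α : F ⟶ F) {ξ η : 𝒳.obj} (φ : ξ ⟶ η) :
    F.map φ ≫ comp1 α η = comp1 α ξ ≫ F.map φ := α.toNatTrans.naturality φ

/-- Triviality passes down along morphisms. -/
theorem comp1_eq_id_of_hom (h𝒴 : FibCat.IsFibGrpd 𝒴.p) (α : F ⟶ F) {ξ η : 𝒳.obj} (φ : ξ ⟶ η)
    (h : comp1 α η = 𝟙 _) : comp1 α ξ = 𝟙 _ := by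
  have h1 : comp1 α ξ ≫ F.map φ = F.map φ := by rw [← comp1_natural, h, Category.comp_id]
  have := h𝒴.isStronglyCartesian (F.map φ)
  have hl₁ : 𝒴.p.IsHomLift (𝟙 (𝒴.p.obj (F.obj ξ))) (comp1 α ξ) :=
    isHomLift_id_congr (F.w_obj ξ).symm (comp1_lift α ξ)
  have hl₂ : 𝒴.p.IsHomLift (𝟙 (𝒴.p.obj (F.obj ξ))) (𝟙 (F.obj ξ)) := IsHomLift.id rfl
  exact IsStronglyCartesian.ext 𝒴.p (𝒴.p.map (F.map φ)) (F.map φ) (𝟙 (𝒴.p.obj (F.obj ξ)))
    (h1.trans (Category.id_comp _).symm)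

/-- An endomorphism of a functor is trivial on a chart when it is trivial at field points lying densely. -/
theorem comp1_eq_id_of_dense (h𝒴 : FibCat.IsFibGrpd 𝒴.p)
    (hu : AlgSt.RepByAlgSpWith (unr (S := S)) (FibCat.diag (FibCat.toSelf 𝒴)))
    (hs : AlgSt.RepByAlgSpWith IsSeparatedMor (FibCat.diag (FibCat.toSelf 𝒴)))
    (α : F ⟶ F) {U : Over S} (G : FibCat.overCat U ⥤ᵇ 𝒳) {D : Set ↥U.left} (hD : Dense D)
    (h : ∀ u ∈ D, ∃ (K : Type u) (_ : Field K) (str : Spec (CommRingCat.of K) ⟶ S) (k : Over.mk str ⟶ U),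
      k.left (IsLocalRing.closedPoint K) = u ∧ comp1 α (G.obj (Over.mk (k ≫ 𝟙 U))) = 𝟙 _) :
    comp1 α (G.obj (Over.mk (𝟙 U))) = 𝟙 _ := by
  haveI := h𝒴
  obtain ⟨R, hR⟩ := Groth.Agent.IsoNatLib.exists_autRep (v := BasedFunctor.comp G F)
    (repByAlgSpWith_inertiaToBase _ (repByAlgSpWith_and stableBC_isSeparatedMor hs hu))
  let K' := BasedFunctor.comp G F
  let c : 𝒴.p.Fiber U := Groth.Agent.IsoNatLib.fib K' (Over.mk (𝟙 U))
  let χ : c ⟶ c := ⟨comp1 α (G.obj (Over.mk (𝟙 U))), isHomLift_id_congr (G.w_obj (Over.mk (𝟙 U))) (comp1_lift α _)⟩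
  have : IsIso χ := Groth.Agent.FibBase.fiber_isIso χ
  let γ : AutAt K' (Over.mk (𝟙 U)) := asIso χ
  have hγ : γ = Iso.refl _ := by
    refine autAt_eq_refl_of_dense R hR.2 hR.1 γ hD fun u hu' => ?_
    obtain ⟨K, iK, str, k, hku, hk⟩ := h u hu'
    refine ⟨K, iK, str, k, hku, res_eq (K := K') _ ?_⟩
    show 𝟙 _ ≫ F.map (G.map (ovHom k (𝟙 U))) = F.map (G.map (ovHom k (𝟙 U))) ≫ comp1 α _
    rw [comp1_natural, hk]
  exact congrArg (fun i => i.hom.1) hγ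

/-- An endomorphism of a functor trivial at field points over a dense set of an atlas is trivial. -/
theorem endTrans_eq_id (h𝒳 : FibCat.IsFibGrpd 𝒳.p) (h𝒴 : FibCat.IsFibGrpd 𝒴.p)
    (hu : AlgSt.RepByAlgSpWith (unr (S := S)) (FibCat.diag (FibCat.toSelf 𝒴)))
    (hs : AlgSt.RepByAlgSpWith IsSeparatedMor (FibCat.diag (FibCat.toSelf 𝒴)))
    {V : Over S} {x : FibCat.overCat V ⥤ᵇ 𝒳} (hx : AlgSt.RepByAlgSpWith (LocP @Smooth) x)
    (hx' : AlgSt.RepByAlgSpWith IsSurjectiveMor x) (α : F ⟶ F) {D : Set ↥V.left} (hD : Dense D)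
    (h : ∀ u ∈ D, ∃ (K : Type u) (_ : Field K) (str : Spec (CommRingCat.of K) ⟶ S) (k : Over.mk str ⟶ V),
      k.left (IsLocalRing.closedPoint K) = u ∧ comp1 α (x.obj (Over.mk (k ≫ 𝟙 V))) = 𝟙 _) :
    α = 𝟙 F := by
  have h₀ := comp1_eq_id_of_dense h𝒴 hu hs α x hD h
  have hx₀ : ∀ a : Over V, comp1 α (x.obj a) = 𝟙 _ := fun a =>
    comp1_eq_id_of_hom h𝒴 α (x.map (Over.homMk a.hom : a ⟶ Over.mk (𝟙 V))) h₀
  have hlft : AlgSt.RepByAlgSpWith (LocP @LocallyOfFiniteType) x :=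
    repByAlgSpWith_mono (fun _ _ _ h => locP_mono (Q := @LocallyOfFiniteType)
      (fun _ _ f (_ : Smooth f) => inferInstanceAs (LocallyOfFiniteType f)) h) hx
  have key : ∀ ξ : 𝒳.obj, comp1 α ξ = 𝟙 _ := by
    intro ξ
    obtain ⟨G, e, he⟩ := exists_overCat_obj h𝒳 ξ rfl
    refine comp1_eq_id_of_hom h𝒴 α e.inv ?_
    refine comp1_eq_id_of_dense h𝒴 hu hs α G dense_univ fun u _ => ?_
    let κ : Type u := (𝒳.p.obj ξ).left.residueField u
    let L : Type u := AlgebraicClosure κ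
    let c : Spec (CommRingCat.of L) ⟶ (𝒳.p.obj ξ).left :=
      Spec.map (CommRingCat.ofHom (algebraMap κ L)) ≫ (𝒳.p.obj ξ).left.fromSpecResidueField u
    let k : Over.mk (c ≫ (𝒳.p.obj ξ).hom) ⟶ 𝒳.p.obj ξ := Over.homMk c rfl
    refine ⟨L, inferInstance, _, k,
      Set.mem_singleton_iff.1 ((Scheme.range_fromSpecResidueField u).subset ⟨_, rfl⟩), ?_⟩
    obtain ⟨a, i, -, -⟩ := GeomLift.exists_iso_of_surjective (isFibGrpd_overCat V) h𝒳 hlft
      (isSurjective_ofChart_atlas h𝒳 hx') L (c ≫ (𝒳.p.obj ξ).hom)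
      (G.obj (Over.mk (k ≫ 𝟙 (𝒳.p.obj ξ)))) (G.w_obj _)
    exact comp1_eq_id_of_hom h𝒴 α i.inv (hx₀ a)
  exact BasedNatTrans.homCategory.ext _ _ (NatTrans.ext (funext key))

end Groth.Agent.AlgStLib
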