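import Groth.Agent.AlgStLib.InertiaEtale
import Groth.Agent.AlgStLib.OpenSub
import Groth.Agent.AlgStLib.OpenSubChart
import Groth.Agent.AlgStLib.DMDiag
import Groth.Agent.AlgStLib.AffineMor
import Groth.Agent.AlgStLib.RepDiag
import Groth.Agent.AlgStLib.Noetherian
import Groth.Agent.QuotLib.LocQToSelf
import Groth.Agent.QuotLib.QuotStack
import Groth.Agent.FlatLocus.Basic
import Groth.Agent.AlgSpDec.GenFiniteDense
import Groth.Agent.AlgSpDec.FibreDimEtale
import Groth.Agent.AlgSpDec.AffineRep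

/-!
# Generic finiteness and etaleness of the inertia of Deligne–Mumford stacks
-/

set_option backward.isDefEq.respectTransparency false
set_option backward.isDefEq.respectTransparency.types false

universe u

open CategoryTheory CategoryTheory.Functor CategoryTheory.Limits AlgebraicGeometry Opposite AlgSp
open MonoidalCategory CartesianMonoidalCategory

namespace Groth.Agent.AlgStLib.GenInertia

open Groth.Agent.FibBase Groth.Agent.AlgSpLib

/-- An affine unramified morphism of finite type to a reduced noetherian affine scheme is finite etale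
near a generic point. -/
theorem exists_finite_etale_restrict {Y W : Scheme.{u}} [IsAffine W] [IsLocallyNoetherian W] [IsReduced W]
    (τ : Y ⟶ W) [LocallyOfFiniteType τ] [IsAffineHom τ] [FormallyUnramified τ] {w : ↥W} (hw : w ∈ genericPoints ↥W) :
    ∃ V : W.Opens, w ∈ V ∧ IsFinite (τ ∣_ V) ∧ Etale (τ ∣_ V) := by
  have : LocallyQuasiFinite τ := locallyQuasiFinite_of_unr τ
  have hfp : LocallyOfFinitePresentation τ := locallyOfFinitePresentation_of_isLocallyNoetherian τ ‹_›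
  obtain ⟨V₁, hV₁, hwV₁, -, hfin⟩ := AlgSpDec.GenFiniteSp.exists_finite_restrict τ hw
    (fun t _ => AlgSpDec.fibreDimAt_eq_zero_of_lqf τ t) ⊤ trivial
  have := hfin
  let Z : Set ↥(V₁ : Scheme.{u}) := (τ ∣_ V₁) '' {x | ¬ ((τ ∣_ V₁).stalkMap x).hom.Flat}
  have hZ : IsClosed Z := (τ ∣_ V₁).isClosedMap _
    (Groth.Agent.FlatLocus.isOpen_flat_locus (τ ∣_ V₁)).isClosed_compl
  have hwZ : (⟨w, hwV₁⟩ : ↥(V₁ : Scheme.{u})) ∉ Z := by
    rintro ⟨x, hx, hxw⟩
    refine hx (RingHom.Flat.of_isField ?_ _)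
    rw [hxw]
    exact (V₁.stalkIso ⟨w, hwV₁⟩).commRingCatIsoToRingEquiv.toMulEquiv.isField
      (isField_stalk_of_closure_mem_irreducibleComponents W w hw)
  let V : W.Opens := V₁.ι ''ᵁ ⟨Zᶜ, hZ.isOpen_compl⟩
  have hVle : V ≤ V₁ := V₁.ι_image_le _
  have hwV : w ∈ V := ⟨⟨w, hwV₁⟩, hwZ, rfl⟩
  have hflat : Flat (τ ∣_ V) := by
    have h : ∀ y : ↥(τ ⁻¹ᵁ V : Scheme.{u}), (τ.stalkMap y.1).hom.Flat := by
      rintro ⟨y, ⟨a, ha, hay⟩⟩
      have hy₁ : τ y ∈ V₁ := hay ▸ a.2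
      have h1 : ((τ ∣_ V₁).stalkMap ⟨y, hy₁⟩).hom.Flat := by
        by_contra hn
        exact ha ⟨⟨y, hy₁⟩, hn, Subtype.ext (by rw [morphismRestrict_base]; exact hay.symm)⟩
      exact (MorphismProperty.arrow_mk_iso_iff (RingHom.toMorphismProperty RingHom.Flat)
        (morphismRestrictStalkMap τ V₁ ⟨y, hy₁⟩)).1 h1
    rw [Flat.iff_flat_stalkMap]
    exact fun y => (MorphismProperty.arrow_mk_iso_iff (RingHom.toMorphismProperty RingHom.Flat)
      (morphismRestrictStalkMap τ V y)).2 (h y)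
  refine ⟨V, hwV, ?_, ?_⟩
  · have e : IsFinite ((τ ∣_ V₁) ∣_ (V₁.ι ⁻¹ᵁ V)) := inferInstance
    refine (MorphismProperty.arrow_mk_iso_iff @IsFinite ?_).1 e
    refine morphismRestrictRestrict τ V₁ (V₁.ι ⁻¹ᵁ V) ≪≫ morphismRestrictEq τ ?_
    show V₁.ι ''ᵁ (V₁.ι ⁻¹ᵁ V) = V
    rw [Scheme.Hom.image_preimage_eq_opensRange_inf, V₁.opensRange_ι, inf_eq_right.2 hVle]
  · have : FormallyUnramified (τ ∣_ V) := IsZariskiLocalAtTarget.restrict ‹FormallyUnramified τ› V
    exact Etale.of_formallyUnramified_of_flat (τ ∣_ V)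

variable {S : Scheme.{u}} {𝒳 : AlgSt.Cat S}

local notation "τ[" Z "]" => FibCat.toSelf Z
local notation "ι[" Z "]" => FibCat.inertiaToBase (FibCat.toSelf Z)

theorem isOpenImm_ptsIn' {T : Set (AlgSt.Points 𝒳)} (hg : FibCat.IsFibGrpd 𝒳.p)
    (hA : AlgSt.HasAtlas (LocP @Smooth) 𝒳) (hT : IsOpen T) :
    AlgSt.IsOpenImm (AlgSt.subIncl 𝒳 (PtsIn T)) := fun U y => by
  let V : U.left.Opens :=
    ⟨AlgSt.Points.ofChart y ⁻¹' T, hT.preimage (continuous_ofChart hg hA y)⟩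
  let Vs : Over S := Over.mk (V.ι ≫ U.hom)
  let j : Vs ⟶ U := Over.homMk V.ι rfl
  have hmem : ∀ c : Over Vs, PtsIn T (y.obj ((AlgSt.overMap j).obj c)) := fun c =>
    (ptsIn_chart_iff hg y _).2 fun w => by
      show AlgSt.Points.ofChart y (V.ι (c.hom.left w)) ∈ T
      exact (c.hom.left w).2
  let y' : FibCat.overCat Vs ⥤ᵇ AlgSt.fullSub 𝒳 (PtsIn T) :=
    { toFunctor := ObjectProperty.lift _ (BasedFunctor.comp (AlgSt.overMap j) y).toFunctor hmem
      w := (BasedFunctor.comp (AlgSt.overMap j) y).w }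
  let e : FibCat.overCat Vs ⥤ᵇ FibCat.fp y (AlgSt.subIncl 𝒳 (PtsIn T)) :=
    FibCat.fpLift (AlgSt.overMap j) y' (Iso.refl (BasedFunctor.comp (AlgSt.overMap j) y))
  have he : FibCat.IsEquivOver e := by
    refine isEquivOver_of_exists_iso _ ⟨fun {a b} t => ?_⟩ ⟨fun {a b} t t' h => ?_⟩ fun η => ?_
    · have hw : t.hom.fst.left ≫ b.hom ≫ j = a.hom ≫ j := Over.w t.hom.fst
      have hm : t.hom.fst.left ≫ b.hom = a.hom := by
        refine Over.OverMorphism.ext ((cancel_mono V.ι).1 ?_)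
        have := congrArg CommaMorphism.left hw
        simp only [Over.comp_left] at this ⊢
        exact (Category.assoc _ _ _).trans this
      let φ : a ⟶ b := Over.homMk t.hom.fst.left hm
      have hfst : (AlgSt.overMap j).map φ = t.hom.fst := Over.OverMorphism.ext rfl
      refine ⟨φ, ?_⟩
      refine ObjectProperty.hom_ext _ (CategoricalPullback.hom_ext hfst (ObjectProperty.hom_ext _ ?_))
      have h := t.hom.w
      have h' : y.map t.hom.fst ≫ 𝟙 _ = 𝟙 _ ≫ t.hom.snd.hom := h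
      show y.map ((AlgSt.overMap j).map φ) = t.hom.snd.hom
      rw [hfst]
      exact ((Category.comp_id _).symm.trans h').trans (Category.id_comp _)
    · have := congrArg (fun k => k.hom.fst.left) h
      exact Over.OverMorphism.ext this
    · let a := η.obj.fst
      have ha : PtsIn T (y.obj a) := ptsIn_of_hom η.obj.iso.hom η.obj.snd.property
      have hr : Set.range a.hom.left ⊆ Set.range V.ι := by
        rintro _ ⟨w, rfl⟩
        rw [Scheme.Opens.range_ι]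
        exact (ptsIn_chart_iff hg y a).1 ha w
      let l : a.left ⟶ Vs := Over.homMk (IsOpenImmersion.lift V.ι a.hom.left hr) (by
        show _ ≫ V.ι ≫ U.hom = _
        rw [← Category.assoc, IsOpenImmersion.lift_fac]
        exact Over.w a.hom)
      have hl : l ≫ j = a.hom := Over.OverMorphism.ext (IsOpenImmersion.lift_fac _ _ _)
      let i₁ : (AlgSt.overMap j).obj (Over.mk l) ≅ a := Over.isoMk (Iso.refl a.left)
        ((Category.id_comp _).trans hl.symm)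
      let i₂ : y'.obj (Over.mk l) ≅ η.obj.snd := ObjectProperty.isoMk _ (y.toFunctor.mapIso i₁ ≪≫ η.obj.iso)
      refine ⟨Over.mk l, fpIsoMk (x := e.obj (Over.mk l)) (y := η) i₁ i₂ ?_, ?_⟩
      · show y.map i₁.hom ≫ η.obj.iso.hom = 𝟙 _ ≫ (y.map i₁.hom ≫ η.obj.iso.hom)
        simp
      · exact fp_isHomLift (𝟙 _) _ (h := IsHomLift.of_fac _ _ _ rfl rfl (by
          show 𝟙 a.left = 𝟙 _ ≫ 𝟙 a.left ≫ 𝟙 _
          simp))
  refine ⟨⟨(yon S).obj Vs, IsAlgSpace.yon_obj Vs⟩, BasedFunctor.comp (AlgSt.toOverCat Vs) e,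
    isEquivOver_comp (isEquivOver_toOverCat Vs) he, ?_⟩
  rw [spMapOfOver_congr (show BasedFunctor.comp (BasedFunctor.comp (AlgSt.toOverCat Vs) e) (FibCat.fpFst y _) ≅
      BasedFunctor.comp (AlgSt.ofSpMap ((yon S).map j)) (AlgSt.toOverCat U) from toOverCatMapIso j),
    spMapOfOver_ofSpMap_toOverCat]
  exact (repWith_yon_map_iff _ j).2 (inferInstanceAs (IsOpenImmersion V.ι))

/-- The inertia of a full subcategory is the restriction of the inertia. -/
def inertiaSub (Q : 𝒳.obj → Prop) :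
    FibCat.inertia τ[AlgSt.fullSub 𝒳 Q] ⥤ᵇ FibCat.fp (AlgSt.subIncl 𝒳 Q) ι[𝒳] :=
  FibCat.fpLift ι[AlgSt.fullSub 𝒳 Q] (inertiaFun (AlgSt.subIncl 𝒳 Q)) (Iso.refl _)

theorem inertiaSub_isEquivOver (Q : 𝒳.obj → Prop) : FibCat.IsEquivOver (inertiaSub (𝒳 := 𝒳) Q) := by
  refine isEquivOver_of_exists_iso _ ⟨fun {x y} t => ?_⟩ ⟨fun {x y} t t' h => ?_⟩ fun η => ?_
  · have w : t.hom.fst.hom ≫ 𝟙 y.pt.obj = 𝟙 x.pt.obj ≫ t.hom.snd.hom := t.hom.w
    replace w : t.hom.fst.hom = t.hom.snd.hom :=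
      (Category.comp_id _).symm.trans (w.trans (Category.id_comp _))
    have hc : x.aut.hom.hom ≫ t.hom.snd.hom = t.hom.snd.hom ≫ y.aut.hom.hom := t.hom.snd.comm
    refine ⟨⟨t.hom.fst, ObjectProperty.hom_ext _ ?_⟩,
      ObjectProperty.hom_ext _ (CategoricalPullback.hom_ext rfl (FibCat.InertiaObj.hom_ext w))⟩
    show x.aut.hom.hom ≫ t.hom.fst.hom = t.hom.fst.hom ≫ y.aut.hom.hom
    rw [w]
    exact hc
  · exact FibCat.InertiaObj.hom_ext (congrArg (fun k => k.hom.fst) h)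
  · let e := η.obj.iso
    have he : 𝒳.p.IsHomLift (𝟙 (𝒳.p.obj η.obj.fst.obj)) e.hom := η.property
    let α₀ : η.obj.fst.obj ≅ η.obj.fst.obj := e ≪≫ η.obj.snd.aut ≪≫ e.symm
    let α : η.obj.fst ≅ η.obj.fst := ObjectProperty.isoMk _ α₀
    have hpt : 𝒳.p.obj η.obj.snd.pt = 𝒳.p.obj η.obj.fst.obj := IsHomLift.codomain_eq 𝒳.p (𝟙 _) e.hom
    have hσ : 𝒳.p.IsHomLift (𝟙 (𝒳.p.obj η.obj.fst.obj)) η.obj.snd.aut.hom :=
      isHomLift_id_congr hpt (η.obj.snd.map_aut ▸ IsHomLift.map 𝒳.p η.obj.snd.aut.hom)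
    have hα : 𝒳.p.map α₀.hom = 𝟙 _ := by
      have h := map_eq_of_isHomLift_id (p := 𝒳.p) (isHomLift_comp_id _ _ he
        (isHomLift_comp_id _ _ hσ (IsHomLift.lift_id_inv 𝒳.p _ e)))
      exact h.trans (eqToHom_refl _ _)
    let x : (FibCat.inertia τ[AlgSt.fullSub 𝒳 Q]).obj := ⟨η.obj.fst, α, hα⟩
    let i₂ : ((inertiaSub Q).obj x).obj.snd ≅ η.obj.snd :=
      { hom := ⟨e.hom, by
          show α₀.hom ≫ e.hom = e.hom ≫ η.obj.snd.aut.hom
          simp [α₀]⟩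
        inv := ⟨e.inv, by
          show η.obj.snd.aut.hom ≫ e.inv = e.inv ≫ α₀.hom
          simp [α₀]⟩
        hom_inv_id := FibCat.InertiaObj.hom_ext e.hom_inv_id
        inv_hom_id := FibCat.InertiaObj.hom_ext e.inv_hom_id }
    refine ⟨x, fpIsoMk (x := (inertiaSub Q).obj x) (y := η) (Iso.refl _) i₂ ?_, ?_⟩
    · show (AlgSt.subIncl 𝒳 Q).map (𝟙 η.obj.fst) ≫ e.hom = 𝟙 _ ≫ e.hom
      simp
    · exact fp_isHomLift (F := AlgSt.subIncl 𝒳 Q) (G := ι[𝒳]) (𝟙 _) _ (h := IsHomLift.id rfl)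

theorem exists_openImm_inertia_finite_etale {B : Type u} [CommRing B] [IsNoetherianRing B]
    {𝒳 : AlgSt.Cat (Spec (CommRingCat.of B))}
    (h𝒳 : AlgSt.IsDM Scheme.etalePrecoverage 𝒳)
    (hft : AlgSt.LocQ (LocP @LocallyOfFiniteType) τ[𝒳])
    (hΔ : AlgSt.RepByAlgSpWith IsAffineMor (FibCat.diag τ[𝒳]))
    (hred : AlgSt.SmoothLocally (fun T => IsReduced T) 𝒳)
    (hne : Nonempty (AlgSt.Points 𝒳)) :
    ∃ (𝒰 : AlgSt.Cat (Spec (CommRingCat.of B))) (j : 𝒰 ⥤ᵇ 𝒳),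
      AlgSt.IsOpenImm j ∧ Nonempty (AlgSt.Points 𝒰) ∧
      AlgSt.RepByAlgSpWith (IsFiniteMor ⊓ IsEtaleMor) ι[𝒰] := by
  have hg := h𝒳.1.isStack.1
  obtain ⟨U₀, c₀, hc₀, hc₀'⟩ := h𝒳.2
  obtain ⟨p⟩ := hne
  obtain ⟨u₀, -⟩ := ofChart_surjective hg hc₀' p
  obtain ⟨O, hO, hu₀, -⟩ := exists_isAffineOpen_mem_and_subset (U := (⊤ : U₀.left.Opens)) (x := u₀) trivial
  let U₁ := Over.mk (O.ι ≫ U₀.hom)
  let a := BasedFunctor.comp (AlgSt.overMap (Over.homMk O.ι rfl : U₁ ⟶ U₀)) c₀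
  have hc₀e : AlgSt.RepByAlgSpWith (LocP @Etale) c₀ :=
    repByAlgSpWith_mono (fun _ _ _ h => locP_etale_of_isEtaleMor h) hc₀
  have hae : AlgSt.RepByAlgSpWith (LocP @Etale) a :=
    repByAlgSpWith_locP_comp (isFibGrpd_overCat U₁) (isFibGrpd_overCat U₀)
      (repByAlgSpWith_overMap stableBC_locP (locP_of_repWith ((repWith_yon_map_iff _ _).2
        (inferInstanceAs (Etale O.ι))))) hc₀e
  have has : AlgSt.RepByAlgSpWith (LocP @Smooth) a :=
    repByAlgSpWith_mono (fun _ _ _ h => locP_mono (Q := @Smooth)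
      (fun _ _ g (_ : Etale g) => inferInstanceAs (Smooth g)) h) hae
  have : IsAffine U₁.left := hO
  have : IsReduced U₁.left := hred U₁ a has
  let T₁ : Over (Spec (CommRingCat.of B)) := 𝟙_ _
  have hterm := QuotLib.LocQToSelf.isEquivOver_toSelf_terminal (S := Spec (CommRingCat.of B))
  have : IsLocallyNoetherian U₁.left := by
    have : (BasedFunctor.id (FibCat.selfOver (Over (Spec (CommRingCat.of B))) : AlgSt.Cat _)).toFunctor.Full :=
      inferInstanceAs (𝟭 _).Full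
    have : (BasedFunctor.id (FibCat.selfOver (Over (Spec (CommRingCat.of B))) : AlgSt.Cat _)).toFunctor.Faithful :=
      inferInstanceAs (𝟭 _).Faithful
    let m := BasedFunctor.comp
      (fpMap (F := τ[𝒳]) (G := BasedFunctor.id _) (F' := τ[𝒳]) (G' := τ[(FibCat.overCat T₁ : AlgSt.Cat _)])
        (a := BasedFunctor.id _) (b := τ[(FibCat.overCat T₁ : AlgSt.Cat _)]) (c := BasedFunctor.id _)
        (Iso.refl _) (Iso.refl _)) (FibCat.fpFst τ[𝒳] (BasedFunctor.id _))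
    have hm : FibCat.IsEquivOver m :=
      isEquivOver_comp (fpMap_isEquivOver _ _ isEquivOver_id hterm) (fpFst_id_isEquivOver _)
    obtain ⟨mi, hmi, ⟨e₁⟩, -⟩ := isEquivOver_inv hm
    let c := FibCat.fpLift a (AlgSt.overMap (toUnit U₁))
      (eqToIso (show BasedFunctor.comp a τ[𝒳] =
        BasedFunctor.comp (AlgSt.overMap (toUnit U₁)) τ[(FibCat.overCat T₁ : AlgSt.Cat _)] by
          rw [comp_toSelf, comp_toSelf]))
    have hc : AlgSt.RepByAlgSpWith (LocP @Smooth) c :=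
      repByAlgSpWith_of_iso (show BasedFunctor.comp a mi ≅ c from whiskerLeftIso c e₁)
        (repByAlgSpWith_postcomp hmi has)
    have h : LocallyOfFiniteType (toUnit U₁).left :=
      locP_yon_map (P := @LocallyOfFiniteType)
        ((locQS_of_locQ isSmoothLocalST_lft hg isFibGrpd_selfOver hft).scheme c
          (repByAlgSpWith_smooth_of_isEquivOver hterm) hc (Iso.refl _))
    rw [Over.toUnit_left] at h
    exact LocallyOfFiniteType.isLocallyNoetherian U₁.hom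
  have hu := repByAlgSpWith_inertiaToBase τ[𝒳] (repByAlgSpWith_unr_diag_toSelf h𝒳.1.diag h𝒳.2)
  have haff := repByAlgSpWith_inertiaToBase τ[𝒳] hΔ
  obtain ⟨F, e, he, hFaff⟩ := haff U₁ a
  have hFu := (RepOver.property_of_stableBC stableBC_locP (hu U₁ a) e he).2
  obtain ⟨Y, i, fst, sq, hY⟩ := hFaff (Z := U₁) inferInstance (𝟙 _)
  have : IsIso fst := sq.isIso_fst_of_isIso
  let b := AlgSt.spMapOfOver (BasedFunctor.comp e (FibCat.fpFst a ι[𝒳]))
  have hb : (yon _).map i = fst ≫ b := (sq.w.trans (Category.comp_id _)).symm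
  have hiu : (@LocallyOfFiniteType ⊓ @FormallyUnramified : MorphismProperty Scheme.{u}) i.left := by
    have := respectsIso_locP' (S := Spec (CommRingCat.of B)) (@LocallyOfFiniteType ⊓ @FormallyUnramified)
    exact locP_yon_map (hb ▸ MorphismProperty.RespectsIso.precomp _ fst b hFu)
  have : LocallyOfFiniteType i.left := hiu.1
  have : FormallyUnramified i.left := hiu.2
  have : IsAffineHom i.left := inferInstance
  obtain ⟨w, hw, -⟩ := MorLib.Birat.exists_generic (X := U₁.left) (⟨u₀, hu₀⟩ : ↥U₁.left)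
  obtain ⟨V, hwV, hfin, het⟩ := exists_finite_etale_restrict i.left hw
  let D : Over (Spec (CommRingCat.of B)) := Over.mk (V.ι ≫ U₁.hom)
  let v : D ⟶ U₁ := Over.homMk V.ι rfl
  let ad := BasedFunctor.comp (AlgSt.overMap v) a
  have hsa := repByAlgSpWith_overMap (stableBC_locP (R := @Smooth)) (k := v)
    (locP_of_repWith ((repWith_yon_map_iff _ v).2 (inferInstanceAs (Smooth V.ι))))
  have hads : AlgSt.RepByAlgSpWith (LocP @Smooth) ad :=
    repByAlgSpWith_locP_comp (isFibGrpd_overCat D) (isFibGrpd_overCat U₁) hsa has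
  let T : Set (AlgSt.Points 𝒳) := Set.range (AlgSt.Points.ofChart ad)
  have hT : IsOpen T :=
    (isOpenMap_ofChart hg (repByAlgSpWith_flat_of_smooth hads) (repByAlgSpWith_lfp_of_smooth hads)).isOpen_range
  let Q := PtsIn T
  let incl := AlgSt.subIncl 𝒳 Q
  have hj : AlgSt.IsOpenImm incl := isOpenImm_ptsIn' hg h𝒳.1.atlas hT
  refine ⟨_, incl, hj, ?_, ?_⟩
  · have h : AlgSt.Points.ofChart ad ⟨w, hwV⟩ ∈ Set.range (AlgSt.Points.map incl) := by
      rw [range_subIncl_ptsIn]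
      exact ⟨_, rfl⟩
    obtain ⟨q, -⟩ := h
    exact ⟨q⟩
  have hmem : ∀ d : Over D, Q (ad.obj d) := fun d => (ptsIn_chart_iff hg ad d).2 fun x => ⟨_, rfl⟩
  let a' : FibCat.overCat D ⥤ᵇ AlgSt.fullSub 𝒳 Q :=
    { toFunctor := ObjectProperty.lift _ ad.toFunctor hmem
      w := ad.w }
  have hUg := isFibGrpd_ptsIn hg T
  have hmono : AlgSt.IsMono incl := isMono_of_isImm (repByAlgSpWith_mono
    (fun _ _ _ h => repWith_mono (fun _ _ g (_ : IsOpenImmersion g) => inferInstanceAs (IsImmersion g)) _ h) hj)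
  have ha's : AlgSt.RepByAlgSpWith (LocP @Smooth) a' :=
    repByAlgSpWith_of_comp stableBC_locP (cancels_mono stableBC_locP) hmono
      (repByAlgSpWith_of_iso (show ad ≅ BasedFunctor.comp a' incl from Iso.refl _) hads)
  have ha'surj : AlgSt.RepByAlgSpWith IsSurjectiveMor a' :=
    repByAlgSpWith_surjective_of_isSurjective (isFibGrpd_overCat D) hUg (repByAlgSp1_of_repByAlgSpWith ha's)
      fun q => by
        obtain ⟨d, hd⟩ := range_subIncl_ptsIn.subset ⟨q, rfl⟩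
        refine ⟨ptAt D d, pts_map_injective_of_isMono hUg hg hmono ?_⟩
        rw [← pts_map_comp, ← hd, ofChart_eq_map]
        rfl
  let YV : Over (Spec (CommRingCat.of B)) := Over.mk ((i.left ⁻¹ᵁ V).ι ≫ Y.hom)
  let jY : YV ⟶ Y := Over.homMk (i.left ⁻¹ᵁ V).ι rfl
  let iV : YV ⟶ D := Over.homMk (i.left ∣_ V) (by
    show (i.left ∣_ V) ≫ V.ι ≫ U₁.hom = _ ≫ Y.hom
    rw [← Category.assoc, morphismRestrict_ι, Category.assoc, Over.w i])
  have sqV : IsPullback iV jY v i :=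
    IsPullback.of_map (Over.forget _) (Over.OverMorphism.ext (morphismRestrict_ι i.left V))
      (isPullback_morphismRestrict i.left V)
  let π := FibCat.fpFst a ι[𝒳]
  let g₁ := BasedFunctor.comp (overOfMap fst) e
  have hg₁ : FibCat.IsEquivOver g₁ :=
    isEquivOver_comp (isEquivOver_comp (isEquivOver_ofOverCat Y) (isEquivOver_ofSpMap fst)) he
  let j₁ : BasedFunctor.comp g₁ π ≅ AlgSt.overMap i := overMapPullIso fst (BasedFunctor.comp e π) i hb
  have hfull : (BasedFunctor.id (FibCat.overCat U₁ : AlgSt.Cat (Spec (CommRingCat.of B)))).toFunctor.Full :=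
    inferInstanceAs (𝟭 _).Full
  have hfaith : (BasedFunctor.id (FibCat.overCat U₁ : AlgSt.Cat (Spec (CommRingCat.of B)))).toFunctor.Faithful :=
    inferInstanceAs (𝟭 _).Faithful
  let m₁ : FibCat.fp (AlgSt.overMap v) (AlgSt.overMap i) ⥤ᵇ FibCat.fp (AlgSt.overMap v) π :=
    fpMap (F := AlgSt.overMap v) (G := π) (F' := AlgSt.overMap v) (G' := AlgSt.overMap i)
      (a := BasedFunctor.id _) (b := g₁) (c := BasedFunctor.id _) (Iso.refl _) j₁.symm
  let Ψ : FibCat.overCat YV ⥤ᵇ FibCat.fp ad ι[𝒳] :=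
    BasedFunctor.comp (BasedFunctor.comp (sliceCone iV jY v i sqV.w) m₁) (pasteVert (AlgSt.overMap v) a ι[𝒳])
  have hΨ : FibCat.IsEquivOver Ψ :=
    isEquivOver_comp (isEquivOver_comp (sliceCone_isEquivOver sqV)
      (fpMap_isEquivOver _ _ isEquivOver_id hg₁)) (pasteVert_isEquivOver _ _ _)
  have : (BasedFunctor.id (AlgSt.fullSub 𝒳 Q)).toFunctor.Full := inferInstanceAs (𝟭 _).Full
  have : (BasedFunctor.id (AlgSt.fullSub 𝒳 Q)).toFunctor.Faithful := inferInstanceAs (𝟭 _).Faithful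
  let E : FibCat.fp a' ι[AlgSt.fullSub 𝒳 Q] ⥤ᵇ FibCat.fp ad ι[𝒳] :=
    BasedFunctor.comp (fpMap (F := a') (G := FibCat.fpFst incl ι[𝒳]) (F' := a') (G' := ι[AlgSt.fullSub 𝒳 Q])
      (a := BasedFunctor.id _) (b := inertiaSub Q) (c := BasedFunctor.id _) (Iso.refl _) (Iso.refl _))
      (pasteVert a' incl ι[𝒳])
  have hE : FibCat.IsEquivOver E :=
    isEquivOver_comp (fpMap_isEquivOver _ _ isEquivOver_id (inertiaSub_isEquivOver Q)) (pasteVert_isEquivOver _ _ _)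
  obtain ⟨Ψi, hΨi, -, ⟨eΨ⟩⟩ := isEquivOver_inv hΨ
  have hP : (IsFiniteMor ⊓ LocP @Etale : MorphismProperty _) ((yon _).map iV) :=
    ⟨AlgSpDec.isFiniteMor_iff_repWith.2 ((repWith_yon_map_iff _ _).2 hfin),
      locP_of_repWith ((repWith_yon_map_iff _ _).2 het)⟩
  have hPb : StableBC (IsFiniteMor ⊓ LocP @Etale : MorphismProperty (Sp (Spec (CommRingCat.of B)))) :=
    stableBC_inf stableBC_affineWith stableBC_locP
  have hfst : AlgSt.RepByAlgSpWith (IsFiniteMor ⊓ LocP @Etale) (FibCat.fpFst a' ι[AlgSt.fullSub 𝒳 Q]) :=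
    repByAlgSpWith_of_iso
      (show BasedFunctor.comp (BasedFunctor.comp E Ψi) (AlgSt.overMap iV) ≅ FibCat.fpFst a' ι[AlgSt.fullSub 𝒳 Q]
        from whiskerLeftIso E (whiskerRightIso eΨ (FibCat.fpFst ad ι[𝒳])))
      (repByAlgSpWith_precomp (isEquivOver_comp hE hΨi) (repByAlgSpWith_overMap hPb hP))
  have hrep : AlgSt.RepByAlgSp1 ι[AlgSt.fullSub 𝒳 Q] :=
    repByAlgSp1_iff_top.2 (repByAlgSpWith_of_iso
      (show BasedFunctor.comp (inertiaSub Q) (FibCat.fpFst incl ι[𝒳]) ≅ ι[AlgSt.fullSub 𝒳 Q] from Iso.refl _)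
      (repByAlgSpWith_precomp (inertiaSub_isEquivOver Q)
        (repByAlgSp1_iff_top.1 (repByAlgSp1_fpFst incl (repByAlgSp1_inertiaToBase τ[𝒳] h𝒳.1.diag)))))
  intro U y
  obtain ⟨G, eG, heG, hG⟩ := repByAlgSpWith_of_locEssSurj hPb
    (isLocalOnBase_inf (isLocalOnBase_fppf_of_fpqc isLocalOnBase_fpqc_isFiniteMor)
      (isLocalOnBase_fppf_of_fpqc isLocalOnBase_fpqc_locP)) hrep (locEssSurj_of_atlas ha's ha'surj) hfst U y
  exact ⟨G, eG, heG, hG.1, (isEtaleMor_iff_locP G.property (IsAlgSpace.yon_obj U) _).2 hG.2⟩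

end Groth.Agent.AlgStLib.GenInertia
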