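import Groth.Agent.AlgStLib.Charts
import Groth.Agent.AlgStLib.SpaceCalc
import Groth.Agent.AlgSpDec.HenselLift

/-!
# Lifting henselian points along smooth representable functors
-/

set_option backward.isDefEq.respectTransparency false
set_option backward.isDefEq.respectTransparency.types false

universe u

open CategoryTheory CategoryTheory.Limits AlgebraicGeometry Opposite AlgSp
open Groth.Agent.FibBase Groth.Agent.AlgSpLib

namespace Groth.Agent.AlgStLib

variable {S : Scheme.{u}}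

/-- A functor from a slice to a slice given by a map of the objects. -/
theorem mapOfOver_comp_spMapOfOver {T U : Over S} {F : Sp S} (G : FibCat.overCat T ⥤ᵇ AlgSt.ofSp F)
    (Φ : AlgSt.ofSp F ⥤ᵇ FibCat.overCat U) (k : T ⟶ U) (i : BasedFunctor.comp G Φ ≅ AlgSt.overMap k) :
    mapOfOver G ≫ AlgSt.spMapOfOver Φ = (yon S).map k := by
  rw [mapOfOver, ← spMapOfOver_comp]
  have e : BasedFunctor.comp (BasedFunctor.comp (AlgSt.toOverCat T) G) Φ ≅
      BasedFunctor.comp (AlgSt.ofSpMap ((yon S).map k)) (AlgSt.toOverCat U) :=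
    whiskerLeftIso (AlgSt.toOverCat T) i ≪≫ overIso _ _ fun x => by
      show 𝟙 _ ≫ _ = _
      rw [Category.id_comp]
      rfl
  rw [spMapOfOver_congr e, spMapOfOver_ofSpMap_toOverCat]

theorem exists_henselian_lift_smooth {𝒵 : AlgSt.Cat S} (Z : AlgSp.Space S)
    (f : AlgSt.ofSp Z.obj ⥤ᵇ 𝒵) (hf : AlgSt.RepByAlgSpWith (LocP @Smooth) f)
    (R : Type u) [CommRing R] [HenselianLocalRing R] (str : Spec (CommRingCat.of R) ⟶ S)
    (z : FibCat.overCat (Over.mk str) ⥤ᵇ 𝒵)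
    (z₀ : (yon S).obj (Over.mk (Spec.map (CommRingCat.ofHom (IsLocalRing.residue R)) ≫ str)) ⟶ Z.obj)
    (w : BasedFunctor.comp (overOfMap z₀) f ≅
      BasedFunctor.comp (AlgSt.overMap (AlgSpDec.cptO str)) z) :
    ∃ z' : (yon S).obj (Over.mk str) ⟶ Z.obj,
      (yon S).map (AlgSpDec.cptO str) ≫ z' = z₀ ∧
        Nonempty (BasedFunctor.comp (overOfMap z') f ≅ z) := by
  obtain ⟨F, e, he, hsm⟩ := hf (Over.mk str) z
  let Φ := BasedFunctor.comp e (FibCat.fpFst z f)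
  let Ψ := BasedFunctor.comp e (FibCat.fpSnd z f)
  let pr := AlgSt.spMapOfOver Φ
  let ψ : F.obj ⟶ Z.obj := spHom Ψ
  let G : FibCat.overCat (Over.mk (Spec.map (CommRingCat.ofHom (IsLocalRing.residue R)) ≫ str)) ⥤ᵇ FibCat.fp z f :=
    FibCat.fpLift (AlgSt.overMap (AlgSpDec.cptO str)) (overOfMap z₀) w.symm
  obtain ⟨g, -, -, ⟨hge⟩⟩ := isEquivOver_inv he
  let G' := BasedFunctor.comp G g
  have i₁ : BasedFunctor.comp G' Φ ≅ AlgSt.overMap (AlgSpDec.cptO str) :=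
    whiskerLeftIso G (whiskerRightIso hge (FibCat.fpFst z f))
  have i₂ : BasedFunctor.comp G' Ψ ≅ overOfMap z₀ :=
    whiskerLeftIso G (whiskerRightIso hge (FibCat.fpSnd z f))
  let x₁ := mapOfOver G'
  have hx₁ : x₁ ≫ pr = (yon S).map (AlgSpDec.cptO str) := mapOfOver_comp_spMapOfOver G' Φ _ i₁
  have hx₁' : x₁ ≫ ψ = z₀ := by
    rw [show x₁ ≫ ψ = mapOfOver (BasedFunctor.comp G' Ψ) from (spHom_comp _ _).symm]
    rw [show mapOfOver (BasedFunctor.comp G' Ψ) = mapOfOver (overOfMap z₀) from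
      spHom_congr (whiskerLeftIso _ i₂), mapOfOver_overOfMap]
  obtain ⟨x', hx', hx''⟩ := AlgSpDec.exists_smooth_point_lift F.property (IsAlgSpace.yon_obj _) pr hsm (𝟙 _) x₁
    (by rw [Category.comp_id]; exact hx₁)
  refine ⟨x' ≫ ψ, by rw [← Category.assoc, hx'', hx₁'], ⟨?_⟩⟩
  let E := BasedFunctor.comp (overOfMap x') e
  have j₁ : BasedFunctor.comp E (FibCat.fpFst z f) ≅ AlgSt.overMap (𝟙 _) :=
    overMapPullIso x' Φ (𝟙 _) (by rw [CategoryTheory.Functor.map_id]; exact hx'.symm)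
  have j₂ : BasedFunctor.comp E (FibCat.fpSnd z f) ≅ overOfMap (x' ≫ ψ) :=
    isoOverOfMap _ ≪≫ eqToIso (congrArg overOfMap (by
      show mapOfOver (BasedFunctor.comp (overOfMap x') Ψ) = x' ≫ ψ
      refine (spHom_comp (BasedFunctor.comp (AlgSt.toOverCat _) (overOfMap x')) Ψ).trans ?_
      exact congrArg (· ≫ ψ) (mapOfOver_overOfMap x')))
  have j₀ : AlgSt.overMap (𝟙 (Over.mk str)) ≅ BasedFunctor.id (FibCat.overCat (Over.mk str)) :=
    overIso _ _ fun x => by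
      show 𝟙 _ ≫ x.hom = x.hom ≫ 𝟙 _
      simp
  exact (whiskerRightIso j₂ f).symm ≪≫ (whiskerLeftIso E (FibCat.fpIso z f)).symm ≪≫
    whiskerRightIso (j₁ ≪≫ j₀) z

end Groth.Agent.AlgStLib
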