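import Groth.Agent.AlgStLib.Calculus
import Groth.Agent.AlgStLib.Charts
import Groth.Agent.AlgStLib.HenselPoint
import Groth.Agent.AlgStLib.Imm
import Groth.Agent.AlgStLib.LocEss
import Groth.Agent.AlgStLib.DiagLFT
import Groth.Agent.AlgSpDec.FppfLqf
import Groth.Agent.S15349

/-!
# Monomorphisms of stacks tested by lifts of points

The base change of a monomorphism of stacks, locally of finite presentation, to a scheme is a scheme, and
lifts of maps to it are lifts of the corresponding objects.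
-/

set_option backward.isDefEq.respectTransparency false
set_option backward.isDefEq.respectTransparency.types false

universe u

open CategoryTheory CategoryTheory.Functor CategoryTheory.Limits AlgebraicGeometry Opposite AlgSp

namespace Groth.Agent.AlgStLib

open Groth.Agent.FibBase Groth.Agent.AlgSpLib

variable {S : Scheme.{u}} {𝒳 𝒴 : AlgSt.Cat S} {U : Over S} {x : FibCat.overCat U ⥤ᵇ 𝒳} {f : 𝒴 ⥤ᵇ 𝒳}
  {F : Sp S}

/-- A point of a base change gives a lift of the object. -/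
theorem exists_lift_of_pt (e : AlgSt.ofSp F ⥤ᵇ FibCat.fp x f) {T : Over S} (τ : (yon S).obj T ⟶ F) (s : T ⟶ U)
    (h : τ ≫ AlgSt.spMapOfOver (BasedFunctor.comp e (FibCat.fpFst x f)) = (yon S).map s) :
    ∃ z : FibCat.overCat T ⥤ᵇ 𝒴,
      Nonempty (BasedFunctor.comp z f ≅ BasedFunctor.comp (AlgSt.overMap s) x) :=
  ⟨BasedFunctor.comp (BasedFunctor.comp (overOfMap τ) e) (FibCat.fpSnd x f),
    ⟨whiskerLeftIso (BasedFunctor.comp (overOfMap τ) e) (FibCat.fpIso x f).symm ≪≫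
      whiskerRightIso (overMapPullIso τ (BasedFunctor.comp e (FibCat.fpFst x f)) s h.symm) x⟩⟩

/-- A lift of an object gives a point of the base change. -/
theorem exists_pt_of_lift {e : AlgSt.ofSp F ⥤ᵇ FibCat.fp x f} (he : FibCat.IsEquivOver e) {T : Over S}
    (s : T ⟶ U) (z : FibCat.overCat T ⥤ᵇ 𝒴)
    (i : BasedFunctor.comp z f ≅ BasedFunctor.comp (AlgSt.overMap s) x) :
    ∃ τ : (yon S).obj T ⟶ F,
      τ ≫ AlgSt.spMapOfOver (BasedFunctor.comp e (FibCat.fpFst x f)) = (yon S).map s := by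
  obtain ⟨g, -, -, ⟨j⟩⟩ := isEquivOver_inv he
  let L := FibCat.fpLift (AlgSt.overMap s) z i.symm
  exact ⟨mapOfOver (BasedFunctor.comp L g), mapOfOver_comp_spMapOfOver _ _ s
    (whiskerLeftIso L (whiskerRightIso j (FibCat.fpFst x f)))⟩

/-- The base change of a monomorphism of stacks, locally of finite presentation, to a scheme. -/
structure MonoModel (x : FibCat.overCat U ⥤ᵇ 𝒳) (f : 𝒴 ⥤ᵇ 𝒳) where
  F : AlgSp.Space S
  e : AlgSt.ofSp F.obj ⥤ᵇ FibCat.fp x f
  he : FibCat.IsEquivOver e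
  Q : Over S
  r : Q ⟶ U
  φ : (yon S).obj Q ≅ F.obj
  hφ : φ.hom ≫ AlgSt.spMapOfOver (BasedFunctor.comp e (FibCat.fpFst x f)) = (yon S).map r
  mono : Mono r.left
  lfp : LocallyOfFinitePresentation r.left

/-- A monomorphism locally of finite presentation has a model over every scheme. -/
theorem exists_monoModel (x : FibCat.overCat U ⥤ᵇ 𝒳) (hm : AlgSt.IsMono f)
    (hl : AlgSt.RepByAlgSpWith (LocP @LocallyOfFinitePresentation) f) : Nonempty (MonoModel x f) := by
  obtain ⟨F, e, he, ha⟩ := hl U x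
  have : Mono (AlgSt.spMapOfOver (BasedFunctor.comp e (FibCat.fpFst x f))) := isMono_property hm x e he
  have hlft : LocP @LocallyOfFiniteType (AlgSt.spMapOfOver (BasedFunctor.comp e (FibCat.fpFst x f))) :=
    locP_mono (Q := @LocallyOfFiniteType)
      (fun _ _ g (_ : LocallyOfFinitePresentation g) => inferInstanceAs (LocallyOfFiniteType g)) ha
  obtain ⟨Q, ⟨φ⟩⟩ := AlgSpDec.exists_iso_of_lqf_separated F.property _ (AlgSpDec.locP_lqf_of_mono _ hlft)
    (AlgSpDec.isSeparatedMor_of_mono _)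
  obtain ⟨r, hr⟩ := (yon S).map_surjective
    (φ.hom ≫ AlgSt.spMapOfOver (BasedFunctor.comp e (FibCat.fpFst x f)))
  have : Mono r := (yon S).mono_of_mono_map (by rw [hr]; infer_instance)
  exact ⟨⟨F, e, he, Q, r, φ, hr.symm, inferInstanceAs (Mono ((Over.forget _).map r)),
    ha φ.hom (𝟙 _) r (repWith_of_isIso @Etale φ.hom) (repWith_id _ _) (by rw [Category.comp_id, hr])⟩⟩

namespace MonoModel

variable (M : MonoModel x f)

theorem exists_lift {T : Over S} (l : T ⟶ M.Q) {s : T ⟶ U} (h : l.left ≫ M.r.left = s.left) :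
    ∃ z : FibCat.overCat T ⥤ᵇ 𝒴,
      Nonempty (BasedFunctor.comp z f ≅ BasedFunctor.comp (AlgSt.overMap s) x) := by
  refine exists_lift_of_pt M.e ((yon S).map l ≫ M.φ.hom) s ?_
  rw [Category.assoc, M.hφ, ← Functor.map_comp]
  exact congrArg _ (Over.OverMorphism.ext h)

theorem exists_pt {T : Over S} (s : T ⟶ U) (z : FibCat.overCat T ⥤ᵇ 𝒴)
    (i : BasedFunctor.comp z f ≅ BasedFunctor.comp (AlgSt.overMap s) x) :
    ∃ l : T.left ⟶ M.Q.left, l ≫ M.r.left = s.left := by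
  obtain ⟨τ, hτ⟩ := exists_pt_of_lift M.he s z i
  obtain ⟨l, hl⟩ := (yon S).map_surjective (τ ≫ M.φ.inv)
  have h : l ≫ M.r = s := (yon S).map_injective (by
    rw [Functor.map_comp, hl, ← M.hφ, Category.assoc, Iso.inv_hom_id_assoc, hτ])
  exact ⟨l.left, congrArg Over.Hom.left h⟩

/-- Generic lifting of the stack gives generic lifting of the model. -/
theorem denseLift
    (hc : ∀ (A : Type u) [CommRing A] [IsDomain A] (sA : Spec (CommRingCat.of A) ⟶ S)
      (a : FibCat.overCat (Over.mk sA) ⥤ᵇ 𝒳) (D : Set ↥(Spec (CommRingCat.of A))), Dense D →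
      (∀ p ∈ D, ∃ yp : FibCat.overCat (Over.mk ((Spec (CommRingCat.of A)).fromSpecResidueField p ≫ sA)) ⥤ᵇ 𝒴,
          Nonempty (BasedFunctor.comp yp f ≅ BasedFunctor.comp (AlgSt.overMap (Over.homMk ((Spec (CommRingCat.of A)).fromSpecResidueField p) rfl : Over.mk (((Spec (CommRingCat.of A)).fromSpecResidueField p) ≫ sA) ⟶ Over.mk sA)) a)) →
      ∃ U : (Spec (CommRingCat.of A)).Opens, (U : Set ↥(Spec (CommRingCat.of A))).Nonempty ∧
        ∃ yU : FibCat.overCat (Over.mk (U.ι ≫ sA)) ⥤ᵇ 𝒴,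
          Nonempty (BasedFunctor.comp yU f ≅ BasedFunctor.comp (AlgSt.overMap (Over.homMk (U.ι) rfl : Over.mk ((U.ι) ≫ sA) ⟶ Over.mk sA)) a))
    (A : Type u) [CommRing A] [IsDomain A] (s : Spec (CommRingCat.of A) ⟶ U.left)
    (D : Set ↥(Spec (CommRingCat.of A))) (hD : Dense D)
    (hl : ∀ p ∈ D, ∃ l : Spec ((Spec (CommRingCat.of A)).residueField p) ⟶ M.Q.left,
        l ≫ M.r.left = (Spec (CommRingCat.of A)).fromSpecResidueField p ≫ s) :
    ∃ V : (Spec (CommRingCat.of A)).Opens, (V : Set ↥(Spec (CommRingCat.of A))).Nonempty ∧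
      ∃ l : (V : Scheme.{u}) ⟶ M.Q.left, l ≫ M.r.left = V.ι ≫ s := by
  let sU : Over.mk (s ≫ U.hom) ⟶ U := Over.homMk s rfl
  obtain ⟨V, hV, z, ⟨i⟩⟩ := hc A (s ≫ U.hom) (BasedFunctor.comp (AlgSt.overMap sU) x) D hD fun p hp => by
    obtain ⟨l, hl⟩ := hl p hp
    let hp' : Over.mk ((Spec (CommRingCat.of A)).fromSpecResidueField p ≫ s ≫ U.hom) ⟶ Over.mk (s ≫ U.hom) :=
      Over.homMk ((Spec (CommRingCat.of A)).fromSpecResidueField p) rfl
    let lQ : Over.mk ((Spec (CommRingCat.of A)).fromSpecResidueField p ≫ s ≫ U.hom) ⟶ M.Q :=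
      Over.homMk l (by
        show l ≫ M.Q.hom = (Spec (CommRingCat.of A)).fromSpecResidueField p ≫ s ≫ U.hom
        rw [← Over.w M.r, ← Category.assoc, hl, Category.assoc])
    obtain ⟨z, ⟨i⟩⟩ := M.exists_lift lQ (s := hp' ≫ sU) hl
    exact ⟨z, ⟨i ≪≫ whiskerRightIso (overMapCompIso hp' sU).symm x⟩⟩
  exact ⟨V, hV, M.exists_pt ((Over.homMk V.ι rfl : Over.mk (V.ι ≫ s ≫ U.hom) ⟶ Over.mk (s ≫ U.hom)) ≫ sU) z
    (i ≪≫ whiskerRightIso (overMapCompIso _ sU) x)⟩

theorem spMap_eq : AlgSt.spMapOfOver (BasedFunctor.comp M.e (FibCat.fpFst x f)) = M.φ.inv ≫ (yon S).map M.r := by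
  rw [← M.hφ, Iso.inv_hom_id_assoc]

end MonoModel

/-- A property of the base change to an atlas gives the property of the functor. -/
theorem repByAlgSpWith_of_atlas_model {P : MorphismProperty (Sp S)} (hPb : StableBC P)
    (hloc : IsLocalOnBase IsFppfCover P) (hf : AlgSt.RepByAlgSp1 f)
    (hx : AlgSt.RepByAlgSpWith (LocP @Smooth) x) (hx' : AlgSt.RepByAlgSpWith IsSurjectiveMor x)
    (F : AlgSp.Space S) (e : AlgSt.ofSp F.obj ⥤ᵇ FibCat.fp x f) (he : FibCat.IsEquivOver e)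
    (hP : P (AlgSt.spMapOfOver (BasedFunctor.comp e (FibCat.fpFst x f)))) :
    AlgSt.RepByAlgSpWith P f :=
  repByAlgSpWith_of_locEssSurj hPb hloc hf (locEssSurj_of_atlas hx hx')
    ((repByAlgSpWith_iff_of_square (f := FibCat.fpFst x f)
      (f' := AlgSt.ofSpMap (AlgSt.spMapOfOver (BasedFunctor.comp e (FibCat.fpFst x f)))) (a := e)
      (b := AlgSt.toOverCat U) he (isEquivOver_toOverCat U) (isoSpMapOfOver _).symm).2
      (repByAlgSpWith_ofSpMap hPb F.property (IsAlgSpace.yon_obj U) _ hP))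

end Groth.Agent.AlgStLib
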