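import Groth.Agent.AlgStLib.InertiaOverSp
import Groth.Agent.AlgStLib.MonoLift
import Groth.Agent.AlgStLib.SepUnivClosed
import Groth.Agent.AlgSpDec.GenFiniteSp
import Groth.Agent.AlgSpDec.EtStalkProps
import Groth.Agent.AlgSpDec.FiniteCrit
import Groth.Agent.AlgSpLib.LocalBaseTop

/-!
# Finiteness of the inertia tested on etale charts preserving automorphisms
-/

set_option backward.isDefEq.respectTransparency false
set_option backward.isDefEq.respectTransparency.types false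

universe u

open CategoryTheory CategoryTheory.Functor CategoryTheory.Limits AlgebraicGeometry Opposite AlgSp

namespace Groth.Agent.AlgStLib

open Groth.Agent.FibBase Groth.Agent.AlgSpLib

variable {S : Scheme.{u}} {𝒳 𝒰 : AlgSt.Cat S}

theorem isHomLift_comp_id {𝒵 : AlgSt.Cat S} {T : Over S} {a b c : 𝒵.obj} (φ : a ⟶ b) (ψ : b ⟶ c)
    (hφ : 𝒵.p.IsHomLift (𝟙 T) φ) (hψ : 𝒵.p.IsHomLift (𝟙 T) ψ) : 𝒵.p.IsHomLift (𝟙 T) (φ ≫ ψ) :=
  IsHomLift.comp_lift_id_right' 𝒵.p (𝟙 T) φ T ψ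

local notation "τ[" Z "]" => FibCat.toSelf Z
local notation "ι[" Z "]" => FibCat.inertiaToBase (FibCat.toSelf Z)

/-- The map of inertias induced by a morphism. -/
def inertiaFun (h : 𝒰 ⥤ᵇ 𝒳) : FibCat.inertia τ[𝒰] ⥤ᵇ FibCat.inertia τ[𝒳] where
  toFunctor :=
    { obj := fun x => ⟨h.obj x.pt, h.toFunctor.mapIso x.aut, by
        show 𝒳.p.map (h.map x.aut.hom) = 𝟙 _
        have e := Functor.congr_hom h.w x.aut.hom
        rw [show 𝒰.p.map x.aut.hom = 𝟙 _ from x.map_aut] at e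
        exact e.trans (by simp)⟩
      map := fun f => ⟨h.map f.hom, by
        show h.map _ ≫ h.map _ = h.map _ ≫ h.map _
        rw [← h.toFunctor.map_comp, f.comm, h.toFunctor.map_comp]⟩ }
  w := congrArg (fun k => FibCat.InertiaObj.forget ⋙ k) h.w

/-- An automorphism over a point lifts along a map which is surjective on automorphisms. -/
theorem exists_lift_aut (h𝒳 : FibCat.IsFibGrpd 𝒳.p) {h : 𝒰 ⥤ᵇ 𝒳} {x : 𝒰.obj}
    (hs : Function.Surjective (Gerb.autMap h x)) (σ : h.obj x ⟶ h.obj x)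
    (hσ : 𝒳.p.IsHomLift (𝟙 (𝒳.p.obj (h.obj x))) σ) :
    ∃ α : x ≅ x, 𝒰.p.map α.hom = 𝟙 (𝒰.p.obj x) ∧ h.map α.hom = σ := by
  have := fiber_isGroupoid h𝒳 (𝒳.p.obj (h.obj x))
  obtain ⟨α, hα⟩ := hs (asIso (⟨σ, hσ⟩ :
    (Fiber.mk (p := 𝒳.p) (a := h.obj x) rfl) ⟶ Fiber.mk rfl))
  refine ⟨ofFiberIso α, map_eq_of_isHomLift_id α.hom.2, ?_⟩
  exact congrArg (fun a : Gerb.AutO (h.obj x) => a.hom.1) hα

/-- Automorphisms of a chart map onto those of its image. -/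
theorem surjective_inertia_spHom (h𝒳 : FibCat.IsFibGrpd 𝒳.p) (h : 𝒰 ⥤ᵇ 𝒳)
    (haut : ∀ (Ω : Type u) [Field Ω] [IsAlgClosed Ω] (t : Spec (CommRingCat.of Ω) ⟶ S)
      (u : 𝒰.p.Fiber (Over.mk t)), Function.Surjective (Gerb.autMap h u.1))
    {T : Over S} (u : FibCat.overCat T ⥤ᵇ 𝒰) (G F : AlgSp.Space S)
    (eU : AlgSt.ofSp G.obj ⥤ᵇ FibCat.fp u ι[𝒰]) (heU : FibCat.IsEquivOver eU)
    (eX : AlgSt.ofSp F.obj ⥤ᵇ FibCat.fp (BasedFunctor.comp u h) ι[𝒳]) (heX : FibCat.IsEquivOver eX) :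
    ∃ φ : G.obj ⟶ F.obj,
      φ ≫ AlgSt.spMapOfOver (BasedFunctor.comp eX (FibCat.fpFst (BasedFunctor.comp u h) ι[𝒳])) =
        AlgSt.spMapOfOver (BasedFunctor.comp eU (FibCat.fpFst u ι[𝒰])) ∧
      Function.Surjective (Points.map φ) := by
  obtain ⟨gX, -, -, ⟨jX⟩⟩ := isEquivOver_inv heX
  have := full_of_isEquivOver heX
  have := faithful_of_isEquivOver heX
  let m : FibCat.fp u ι[𝒰] ⥤ᵇ FibCat.fp (BasedFunctor.comp u h) ι[𝒳] :=
    fpMap (F := BasedFunctor.comp u h) (G := ι[𝒳]) (F' := u) (G' := ι[𝒰])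
      (a := BasedFunctor.id _) (b := inertiaFun h) (c := h) (Iso.refl _) (Iso.refl _)
  let Ψ : AlgSt.ofSp G.obj ⥤ᵇ AlgSt.ofSp F.obj := BasedFunctor.comp (BasedFunctor.comp eU m) gX
  let K : BasedFunctor.comp (AlgSt.ofSpMap (spHom Ψ)) eX ≅ BasedFunctor.comp eU m :=
    whiskerRightIso (isoOfSpMap Ψ).symm eX ≪≫ whiskerLeftIso (BasedFunctor.comp eU m) jX
  refine ⟨spHom Ψ, ?_, fun z => ?_⟩
  · rw [← spMapOfOver_comp]
    exact spMapOfOver_congr (whiskerLeftIso (BasedFunctor.comp eU m)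
      (whiskerRightIso jX (FibCat.fpFst (BasedFunctor.comp u h) ι[𝒳])))
  obtain ⟨⟨Ω, str, s⟩, hgeo, rfl⟩ := AlgSpDec.EtStalkProps.exists_geometric z
  have : IsAlgClosed Ω := hgeo
  let o := eX.obj ⟨Over.mk str, s⟩
  have hoT : o.obj.fst.left = Over.mk str := eX.w_obj ⟨Over.mk str, s⟩
  let e := o.obj.iso
  have he : 𝒳.p.IsHomLift (𝟙 (Over.mk str)) e.hom := hoT ▸ o.property
  let x : 𝒰.obj := u.obj o.obj.fst
  have hx : 𝒰.p.obj x = Over.mk str := (u.w_obj o.obj.fst).trans hoT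
  have hhx : 𝒳.p.obj (h.obj x) = Over.mk str := (h.w_obj x).trans hx
  have he' : 𝒳.p.IsHomLift (𝟙 (Over.mk str)) e.inv := IsHomLift.lift_id_inv 𝒳.p _ e
  have hpt : 𝒳.p.obj o.obj.snd.pt = Over.mk str := (snd_proj o).trans hoT
  have hσ₀ : 𝒳.p.IsHomLift (𝟙 (Over.mk str)) o.obj.snd.aut.hom :=
    isHomLift_id_congr hpt (o.obj.snd.map_aut ▸ IsHomLift.map 𝒳.p o.obj.snd.aut.hom)
  have hσ : 𝒳.p.IsHomLift (𝟙 (𝒳.p.obj (h.obj x))) (e.hom ≫ o.obj.snd.aut.hom ≫ e.inv) :=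
    isHomLift_id_congr hhx.symm (isHomLift_comp_id _ _ he (isHomLift_comp_id _ _ hσ₀ he'))
  obtain ⟨α, hα, hhα⟩ := exists_lift_aut h𝒳 (haut Ω str ⟨x, hx⟩) (e.hom ≫ o.obj.snd.aut.hom ≫ e.inv) hσ
  let η : (FibCat.fp u ι[𝒰]).obj :=
    ⟨⟨o.obj.fst, ⟨x, α, hα⟩, Iso.refl _⟩, IsHomLift.id (u.w_obj o.obj.fst)⟩
  obtain ⟨⟨B, s'⟩, i₁, hi₁⟩ := exists_iso_over_of_isEquivOver heU η (S := Over.mk str) hoT
  obtain rfl : B = Over.mk str := (eU.w_obj ⟨B, s'⟩).symm.trans (IsHomLift.domain_eq _ (𝟙 _) i₁.hom)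
  let ei : (inertiaFun h).obj ⟨x, α, hα⟩ ≅ o.obj.snd :=
    { hom := ⟨e.hom, by
        show h.map α.hom ≫ e.hom = e.hom ≫ o.obj.snd.aut.hom
        rw [hhα]; simp⟩
      inv := ⟨e.inv, by
        show o.obj.snd.aut.hom ≫ e.inv = e.inv ≫ h.map α.hom
        rw [hhα]; simp⟩
      hom_inv_id := FibCat.InertiaObj.hom_ext e.hom_inv_id
      inv_hom_id := FibCat.InertiaObj.hom_ext e.inv_hom_id }
  let i₂ : m.obj η ≅ o := fpIsoMk (x := m.obj η) (y := o) (Iso.refl o.obj.fst) ei (by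
    show h.map (u.map (𝟙 o.obj.fst)) ≫ e.hom = (𝟙 _ ≫ h.map (𝟙 x) ≫ 𝟙 _) ≫ e.hom
    rw [u.toFunctor.map_id, Category.comp_id, Category.id_comp])
  have hi₂ : (FibCat.fp (BasedFunctor.comp u h) ι[𝒳]).p.IsHomLift (𝟙 (Over.mk str)) i₂.hom :=
    fp_isHomLift (F := BasedFunctor.comp u h) (G := ι[𝒳]) (𝟙 (Over.mk str)) _ (h := IsHomLift.id hoT)
  let i₀ := isoApp K (⟨Over.mk str, s'⟩ : (AlgSt.ofSp G.obj).obj)
  have hL : (FibCat.fp (BasedFunctor.comp u h) ι[𝒳]).p.IsHomLift (𝟙 (Over.mk str))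
      (i₀.hom ≫ m.map i₁.hom ≫ i₂.hom) :=
    isHomLift_comp_id _ _ (isoApp_lift K rfl) (isHomLift_comp_id _ _ (m.preserves_isHomLift _ _) hi₂)
  obtain ⟨l, hl⟩ := eX.map_surjective (X := (AlgSt.ofSpMap (spHom Ψ)).obj ⟨Over.mk str, s'⟩)
    (Y := (⟨Over.mk str, s⟩ : (AlgSt.ofSp F.obj).obj)) (i₀.hom ≫ m.map i₁.hom ≫ i₂.hom)
  rw [← hl, BasedFunctor.isHomLift_iff] at hL
  have hb : l.hom = 𝟙 (Over.mk str) := (map_eq_of_isHomLift_id hL).trans rfl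
  have hls : F.obj.obj.map (𝟙 (Over.mk str)).op s = (spHom Ψ).hom.app (op (Over.mk str)) s' := hb ▸ l.map_sec
  rw [op_id, Functor.map_id_apply] at hls
  refine ⟨Points.mk ⟨Ω, str, s'⟩, ?_⟩
  rw [Points.map_mk]
  exact congrArg Points.mk (congrArg (fun v => (⟨Ω, str, v⟩ : FieldPt F.obj)) hls.symm)

/-- Finiteness of the inertia may be tested on an etale cover preserving geometric automorphisms. -/
theorem finite_inertia_of_etale_cover (h𝒳 : AlgSt.IsAlgStack Scheme.fppfPrecoverage 𝒳)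
    (hΔ : AlgSt.RepByAlgSpWith IsSeparatedMor (FibCat.diag τ[𝒳])) (hqf : AlgSt.IsQuasiDMOver 𝒳)
    (hloc : ∀ x : AlgSt.Points 𝒳, ∃ (𝒰 : AlgSt.Cat S) (h : 𝒰 ⥤ᵇ 𝒳),
      AlgSt.IsAlgStack Scheme.fppfPrecoverage 𝒰 ∧ x ∈ Set.range (AlgSt.Points.map h) ∧
      AlgSt.RepByAlgSpWith IsEtaleMor h ∧ AlgSt.IsSeparatedOver 𝒰 ∧
      ∀ (Ω : Type u) [Field Ω] [IsAlgClosed Ω] (t : Spec (CommRingCat.of Ω) ⟶ S) (u : 𝒰.p.Fiber (Over.mk t)),
        Function.Surjective (Gerb.autMap h u.1)) :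
    AlgSt.RepByAlgSpWith IsFiniteMor ι[𝒳] := by
  have h𝒳g := h𝒳.isStack.1
  have hsI := repByAlgSpWith_inertiaToBase τ[𝒳] hΔ
  intro T y
  obtain ⟨F, e, he, hl⟩ := repByAlgSpWith_inertiaToBase τ[𝒳] hqf T y
  refine ⟨F, e, he, ?_⟩
  have hs := (RepOver.property_of_stableBC stableBC_isSeparatedMor (hsI T y) e he).2
  refine AlgSpDec.finite_of_univClosed_lqf F.property (IsAlgSpace.yon_obj T) ?_ hs hl
  have key : ∀ t : T.left, ∃ (T' : Over S) (q : T' ⟶ T), Etale q.left ∧ t ∈ Set.range q.left ∧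
      RepOver IsUnivClosedMor (FibCat.fpFst (BasedFunctor.comp (AlgSt.overMap q) y) ι[𝒳]) := by
    intro t
    obtain ⟨𝒰, h, h𝒰, ⟨xU, hxU⟩, het, hsep, haut⟩ := hloc (AlgSt.Points.ofChart y t)
    obtain ⟨V, eV, heV, hV⟩ := het T y
    obtain ⟨w, hw, -⟩ := exists_pts_fp h𝒰.isStack.1 h𝒳g (isFibGrpd_overCat T) h y (ptAt T t) xU
      (by rw [hxU]; rfl)
    obtain ⟨w', rfl⟩ := (pts_bijective_of_isEquivOver heV).2 w
    obtain ⟨T', a, ha, has⟩ := V.property.atlas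
    obtain ⟨t', ht'⟩ := surjective_ofPt has (spPt w')
    let Φ := BasedFunctor.comp eV (FibCat.fpFst y h)
    obtain ⟨q, hq⟩ := (yon S).map_surjective (a ≫ AlgSt.spMapOfOver Φ)
    have hqe : Etale q.left :=
      locP_etale_of_isEtaleMor hV a (𝟙 _) q ha (repWith_id _ _) (by rw [Category.comp_id, hq])
    have hqt : q.left t' = t := by
      have h2 : toSch T (AlgSt.Points.map Φ w') = t := by rw [pts_map_comp, hw, toSch_ptAt]
      rw [toSch_map, ← ht', Points.map_ofPt, ← hq] at h2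
      rw [← h2, Points.toScheme_ofPt]
    obtain ⟨u, ⟨iu⟩⟩ := exists_lift_of_pt eV a q hq.symm
    refine ⟨T', q, hqe, ⟨t', hqt⟩, repOver_congr iu ?_⟩
    obtain ⟨G, eU, heU, hb⟩ := repByAlgSpWith_inertiaToBase τ[𝒰] hsep T' u
    obtain ⟨F', eX, heX⟩ := repByAlgSp1_inertiaToBase τ[𝒳] h𝒳.diag T' (BasedFunctor.comp u h)
    obtain ⟨φ, hφ, hφs⟩ := surjective_inertia_spHom h𝒳g h haut u G F' eU heU eX heX
    exact ⟨F', eX, heX, AlgSpDec.GenFiniteSp.isUnivClosedMor_of_surjective_comp hφs (hφ.symm ▸ hb.2.2)⟩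
  choose T' q hqe hqr hq using key
  have hcov := isFppfCover_yon_map T' q (fun t => by have := hqe t; exact inferInstanceAs (Flat (q t).left))
    (fun t => by have := hqe t; exact inferInstanceAs (LocallyOfFinitePresentation (q t).left))
    (fun t => ⟨t, hqr t⟩)
  exact ((isLocalOnBase_fppf_of_fpqc isLocalOnBase_fpqc_isUnivClosedMor) _ _ (IsAlgSpace.yon_obj T)
    (fun t => IsAlgSpace.yon_obj _) hcov _ F.property _ (fun t => pullback.snd _ _) (fun t => pullback.fst _ _)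
    (fun t => isAlgSpace_pullback F.property (IsAlgSpace.yon_obj _) (IsAlgSpace.yon_obj _) _ _)
    (fun t => IsPullback.of_hasPullback _ _)).2 fun t =>
      property_pullback_of_repOver stableBC_isUnivClosedMor (q t) y F.property e he (hq t)

end Groth.Agent.AlgStLib
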