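import Groth.Agent.AlgStLib.SepDiag
import Groth.Agent.AlgSpDec.FiniteCrit
import Groth.Agent.AlgStLib.OfPsh
import Groth.Agent.AlgSpPts.UnivClosed
import Groth.Agent.AlgSpPts.Sep
import Groth.Prelude.Def_StCoarse

/-!
# The inertia relative to a map to a space
-/

set_option backward.isDefEq.respectTransparency false
set_option backward.isDefEq.respectTransparency.types false

universe u

open CategoryTheory CategoryTheory.Functor CategoryTheory.Limits AlgebraicGeometry AlgSp

namespace Groth.Agent.AlgStLib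

open Groth.Agent.FibBase

variable {S : Scheme.{u}} {𝒳 : AlgSt.Cat S} {M : Sp S} (π : 𝒳 ⥤ᵇ AlgSt.ofSp M)

theorem map_aut_toSelf (x : FibCat.InertiaObj π) : 𝒳.p.map x.aut.hom = 𝟙 _ := by
  have h1 := Functor.congr_hom π.w x.aut.hom
  have h2 : (π.toFunctor ⋙ (AlgSt.ofSp M).p).map x.aut.hom = 𝟙 _ := by
    show (AlgSt.ofSp M).p.map (π.map x.aut.hom) = _
    rw [x.map_aut, CategoryTheory.Functor.map_id]
    rfl
  rw [h2] at h1
  rw [← cancel_epi (eqToHom (π.w_obj x.pt)), ← cancel_mono (eqToHom (π.w_obj x.pt).symm)]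
  simpa using h1.symm

theorem map_aut_ofSp (x : FibCat.InertiaObj (FibCat.toSelf 𝒳)) : π.map x.aut.hom = 𝟙 _ := by
  haveI := faithful_forget M.obj
  apply (Stk.EltObj.forget M.obj).map_injective
  show (π.toFunctor ⋙ (AlgSt.ofSp M).p).map x.aut.hom = _
  rw [Functor.congr_hom π.w x.aut.hom, show 𝒳.p.map x.aut.hom = 𝟙 _ from x.map_aut, CategoryTheory.Functor.map_id]
  simp

theorem respectsIso_locP' (P : MorphismProperty Scheme.{u}) : (LocP (S := S) P).RespectsIso := by
  apply MorphismProperty.RespectsIso.mk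
  · intro X Y Z e f hf U W a b h ha hb w
    exact hf (a ≫ e.hom) b h (((RepWith (S := S) @Etale).cancel_right_of_respectsIso _ _).2 ha) hb
      (by rw [Category.assoc, w])
  · intro X Y Z e f hf U W a b h ha hb w
    exact hf a (b ≫ e.inv) h ha (((RepWith (S := S) @Etale).cancel_right_of_respectsIso _ _).2 hb)
      (by rw [← Category.assoc, ← w, Category.assoc, Category.assoc, e.hom_inv_id, Category.comp_id])

theorem respectsIso_isProperMor : (IsProperMor (S := S)).RespectsIso := by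
  haveI := respectsIso_locP' (S := S) @LocallyOfFiniteType
  refine MorphismProperty.RespectsIso.mk _ (fun {X Y Z} e f h => ?_) (fun {X Y Z} e f h => ?_)
  · have sq : IsPullback e.hom (e.hom ≫ f) f (𝟙 Z) := IsPullback.of_horiz_isIso ⟨by simp⟩
    exact ⟨AlgSpPts.isSeparatedMor_of_isPullback sq h.1,
      ⟨MorphismProperty.RespectsIso.precomp (LocP @LocallyOfFiniteType) e.hom f h.2.1.1,
        AlgSpPts.isQuasiCompactMor_of_isPullback sq h.2.1.2⟩, AlgSpPts.isUnivClosedMor_of_isPullback sq h.2.2⟩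
  · have sq : IsPullback (𝟙 X) (f ≫ e.hom) f e.inv := IsPullback.of_horiz_isIso ⟨by simp⟩
    exact ⟨AlgSpPts.isSeparatedMor_of_isPullback sq h.1,
      ⟨MorphismProperty.RespectsIso.postcomp (LocP @LocallyOfFiniteType) e.hom f h.2.1.1,
        AlgSpPts.isQuasiCompactMor_of_isPullback sq h.2.1.2⟩, AlgSpPts.isUnivClosedMor_of_isPullback sq h.2.2⟩

/-- The inertia over a space is the inertia over the base. -/
def inertiaToAbs : FibCat.inertia π ⥤ᵇ FibCat.inertia (FibCat.toSelf 𝒳) where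
  toFunctor :=
    { obj := fun x => ⟨x.pt, x.aut, map_aut_toSelf π x⟩
      map := fun f => ⟨f.hom, f.comm⟩ }
  w := rfl

/-- The inverse. -/
def inertiaOfAbs : FibCat.inertia (FibCat.toSelf 𝒳) ⥤ᵇ FibCat.inertia π where
  toFunctor :=
    { obj := fun x => ⟨x.pt, x.aut, map_aut_ofSp π x⟩
      map := fun f => ⟨f.hom, f.comm⟩ }
  w := rfl

theorem inertiaToAbs_isEquivOver : FibCat.IsEquivOver (inertiaToAbs π) :=
  ⟨inertiaOfAbs π, ⟨Iso.refl _⟩, ⟨Iso.refl _⟩⟩

theorem repByAlgSpWith_inertia_iff {P : MorphismProperty (Sp S)} [P.RespectsIso] :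
    AlgSt.RepByAlgSpWith P (FibCat.inertiaToBase (FibCat.toSelf 𝒳)) ↔
      AlgSt.RepByAlgSpWith P (FibCat.inertiaToBase π) :=
  repByAlgSpWith_iff_of_square (f := FibCat.inertiaToBase (FibCat.toSelf 𝒳)) (f' := FibCat.inertiaToBase π)
    (a := inertiaToAbs π) (b := BasedFunctor.id _) (inertiaToAbs_isEquivOver π) isEquivOver_id (Iso.refl _)

end Groth.Agent.AlgStLib
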