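import Groth.Agent.AlgStLib.OpenSub

/-!
# The predicate of an open set of points along a functor
-/

set_option autoImplicit false
set_option backward.isDefEq.respectTransparency false
set_option backward.isDefEq.respectTransparency.types false

universe u

open CategoryTheory CategoryTheory.Functor CategoryTheory.Limits AlgebraicGeometry Opposite AlgSp
open Groth.Agent.FibBase Groth.Agent.AlgSpLib

namespace Groth.Agent.AlgStLib

variable {S : Scheme.{u}} {𝒳 𝒵 : AlgSt.Cat S}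

theorem ptsIn_obj_iff (h𝒳 : FibCat.IsFibGrpd 𝒳.p) (h𝒵 : FibCat.IsFibGrpd 𝒵.p) (F : 𝒵 ⥤ᵇ 𝒳)
    (T : Set (AlgSt.Points 𝒳)) (z : 𝒵.obj) :
    PtsIn T (F.obj z) ↔ PtsIn (AlgSt.Points.map F ⁻¹' T) z := by
  refine ⟨fun h p φ => h (p.map F) (F.map φ), fun h => ?_⟩
  exact ptsIn_map h𝒳 (isFibGrpd_ptsIn h𝒵 _) (BasedFunctor.comp (AlgSt.subIncl 𝒵 (PtsIn (AlgSt.Points.map F ⁻¹' T))) F)
    (fun w => by
      rw [pts_map_comp]
      exact (range_subIncl_ptsIn (T := AlgSt.Points.map F ⁻¹' T)).subset ⟨w, rfl⟩) ⟨z, h⟩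

end Groth.Agent.AlgStLib
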