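import Groth.Agent.AlgStLib.OpenSub
import Groth.Agent.AlgStLib.PtsInObj
import Groth.Agent.AlgStLib.LocQCalc
import Groth.Agent.AlgStLib.Source
import Groth.Agent.AlgStLib.DiagLFT
import Groth.Agent.AlgSpLib.LargestOpen

/-!
# The largest open substack on which a representable morphism has a property

Let `P`, `Q`, `R` be properties of morphisms of algebraic spaces such that every morphism with `Q` has a
largest open subspace on which it has `P`, compatibly with base changes having `R`. Reading this subspace on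
a smooth chart of the target gives an open set of points of the source stack.
-/

set_option autoImplicit false
set_option backward.isDefEq.respectTransparency false
set_option backward.isDefEq.respectTransparency.types false

universe u

open CategoryTheory CategoryTheory.Functor CategoryTheory.Limits AlgebraicGeometry Opposite AlgSp
open Groth.Agent.FibBase Groth.Agent.AlgSpLib

namespace Groth.Agent.AlgStLib

variable {S : Scheme.{u}} {𝒳 𝒴 𝒵 : AlgSt.Cat S} {P Q R : MorphismProperty (Sp S)}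

local notation "K₀" => Scheme.fppfPrecoverage

/-! ## Base change of a representation along a map of spaces -/

/-- `pasteVert` followed by forgetting the first component. -/
def pasteVertFstIso {𝒲 𝒵' : AlgSt.Cat S} (r : 𝒲 ⥤ᵇ 𝒵') (y : 𝒵' ⥤ᵇ 𝒴) (f : 𝒳 ⥤ᵇ 𝒴) :
    BasedFunctor.comp (pasteVert r y f)
        (fpMap (F := y) (G := f) (F' := BasedFunctor.comp r y) (G' := f) (a := r) (b := BasedFunctor.id _)
          (c := BasedFunctor.id _) (Iso.refl _) (Iso.refl _)) ≅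
      FibCat.fpSnd r (FibCat.fpFst y f) :=
  BasedNatIso.mkNatIso
    (NatIso.ofComponents (fun z => fpIsoMk z.obj.iso (Iso.refl _) (by
        show y.map z.obj.iso.hom ≫ z.obj.snd.obj.iso.hom =
          (𝟙 _ ≫ (y.map z.obj.iso.hom ≫ z.obj.snd.obj.iso.hom) ≫ 𝟙 _) ≫ f.map (𝟙 _)
        simp))
      (fun {z z'} φ => by
        refine ObjectProperty.hom_ext _ (CategoricalPullback.hom_ext ?_ ?_)
        · exact φ.hom.w
        · show φ.hom.snd.hom.snd ≫ 𝟙 _ = 𝟙 _ ≫ φ.hom.snd.hom.snd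
          simp))
    fun z => fp_isHomLift (F := y) (G := f) (𝟙 _) _
      (h := isHomLift_id_congr rfl (fp_iso_lift z))

theorem exists_chart_pullback (f : 𝒳 ⥤ᵇ 𝒴) {X V V' D : Sp S} (y : AlgSt.ofSp V ⥤ᵇ 𝒴) {a : X ⟶ V}
    {e : AlgSt.ofSp X ⥤ᵇ FibCat.fp y f} (he : FibCat.IsEquivOver e)
    (ie : BasedFunctor.comp e (FibCat.fpFst y f) ≅ AlgSt.ofSpMap a) {r : V' ⟶ V} {g : D ⟶ X} {a' : D ⟶ V'}
    (sq : IsPullback g a' a r) :
    ∃ e' : AlgSt.ofSp D ⥤ᵇ FibCat.fp (BasedFunctor.comp (AlgSt.ofSpMap r) y) f, FibCat.IsEquivOver e' ∧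
      Nonempty (BasedFunctor.comp e' (FibCat.fpFst _ f) ≅ AlgSt.ofSpMap a') ∧
      Nonempty (BasedFunctor.comp e'
          (fpMap (F := y) (G := f) (F' := BasedFunctor.comp (AlgSt.ofSpMap r) y) (G' := f) (a := AlgSt.ofSpMap r)
            (b := BasedFunctor.id _) (c := BasedFunctor.id _) (Iso.refl _) (Iso.refl _)) ≅
        BasedFunctor.comp (AlgSt.ofSpMap g) e) := by
  obtain ⟨k, hk, ⟨jf⟩, ⟨js⟩⟩ := exists_spCone sq
  have : (BasedFunctor.id (AlgSt.ofSp V)).toFunctor.Full := inferInstanceAs (𝟭 _).Full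
  have : (BasedFunctor.id (AlgSt.ofSp V)).toFunctor.Faithful := inferInstanceAs (𝟭 _).Faithful
  let m := fpMap (F := AlgSt.ofSpMap r) (G := FibCat.fpFst y f) (F' := AlgSt.ofSpMap r) (G' := AlgSt.ofSpMap a)
    (a := BasedFunctor.id _) (b := e) (c := BasedFunctor.id _) (Iso.refl _) ie.symm
  let pre := BasedFunctor.comp k (BasedFunctor.comp (fpSwap (AlgSt.ofSpMap a) (AlgSt.ofSpMap r)) m)
  have hpre : FibCat.IsEquivOver pre :=
    isEquivOver_comp hk (isEquivOver_comp (fpSwap_isEquivOver _ _) (fpMap_isEquivOver _ _ isEquivOver_id he))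
  refine ⟨BasedFunctor.comp pre (pasteVert (AlgSt.ofSpMap r) y f),
    isEquivOver_comp hpre (pasteVert_isEquivOver _ _ _), ⟨?_⟩, ⟨?_⟩⟩
  · exact js
  · exact whiskerLeftIso pre (pasteVertFstIso (AlgSt.ofSpMap r) y f) ≪≫ whiskerRightIso jf e

/-! ## Largest opens -/

/-- `w` is the largest open subspace on which `f` has `P`. -/
def IsLargest (P : MorphismProperty (Sp S)) {X Y : AlgSp.Space S} (f : X ⟶ Y) {W : AlgSp.Space S} (w : W ⟶ X) : Prop :=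
  RepWith @IsOpenImmersion w.hom ∧ P (w ≫ f).hom ∧
    ∀ (W₁ : AlgSp.Space S) (w₁ : W₁ ⟶ X), RepWith @IsOpenImmersion w₁.hom → P (w₁ ≫ f).hom →
      ∃ k : W₁ ⟶ W, k ≫ w = w₁

/-- The hypotheses on the three properties. -/
structure LargestHyps (P Q R : MorphismProperty (Sp S)) : Prop where
  hPb : StableBC P
  hQb : StableBC Q
  hRb : StableBC R
  hP : IsLocalOnBase IsFppfCover P
  hQ : IsLocalOnBase IsFppfCover Q
  hR : IsLocalOnBase IsFppfCover R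
  h₂ : ∀ (X Y : AlgSp.Space S) (g : X ⟶ Y), LocP @Smooth g.hom → R g.hom
  h₃ : ∀ (X Y : AlgSp.Space S) (f : X ⟶ Y), Q f.hom → ∃ (W : AlgSp.Space S) (w : W ⟶ X), IsLargest P f w
  h₄ : ∀ (X Y X' Y' : AlgSp.Space S) (f : X ⟶ Y) (g : Y' ⟶ Y) (f' : X' ⟶ Y') (g' : X' ⟶ X),
    IsPullback g'.hom f'.hom f.hom g.hom → Q f.hom → R g.hom →
    ∀ (W : AlgSp.Space S) (w : W ⟶ X), IsLargest P f w →
      ∀ (W' : AlgSp.Space S) (w' : W' ⟶ X') (k : W' ⟶ W), IsPullback k.hom w'.hom w.hom g'.hom → IsLargest P f' w'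

theorem IsLargest.range_subset {X Y : AlgSp.Space S} {f : X ⟶ Y} {W W₁ : AlgSp.Space S} {w : W ⟶ X}
    (h : IsLargest P f w) (w₁ : W₁ ⟶ X) (h₁ : RepWith @IsOpenImmersion w₁.hom) (hP₁ : P (w₁ ≫ f).hom) :
    Set.range (AlgSp.Points.map w₁.hom) ⊆ Set.range (AlgSp.Points.map w.hom) := by
  obtain ⟨k, rfl⟩ := h.2.2 W₁ w₁ h₁ hP₁
  rintro _ ⟨z, rfl⟩
  exact ⟨AlgSp.Points.map k.hom z, (AlgSp.Points.map_comp k.hom w.hom z).symm⟩

/-- Membership in the largest open is insensitive to the two base changes to the same space. -/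
theorem LargestHyps.mem_range_iff (H : LargestHyps P Q R) {X Y D Y' : AlgSp.Space S} {f : X ⟶ Y}
    (hf : Q f.hom) {W : AlgSp.Space S} {w : W ⟶ X} (hw : IsLargest P f w) {f' : D.obj ⟶ Y'.obj}
    {g₁ g₂ : D.obj ⟶ X.obj} {r₁ r₂ : Y'.obj ⟶ Y.obj} (sq₁ : IsPullback g₁ f' f.hom r₁)
    (sq₂ : IsPullback g₂ f' f.hom r₂) (hr₁ : R r₁) (hr₂ : R r₂) (q : AlgSp.Points D.obj) :
    AlgSp.Points.map g₁ q ∈ Set.range (AlgSp.Points.map w.hom) ↔
      AlgSp.Points.map g₂ q ∈ Set.range (AlgSp.Points.map w.hom) := by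
  have key : ∀ (g g' : D.obj ⟶ X.obj) (r r' : Y'.obj ⟶ Y.obj), IsPullback g f' f.hom r →
      IsPullback g' f' f.hom r' → R r → R r' →
      AlgSp.Points.map g q ∈ Set.range (AlgSp.Points.map w.hom) →
      AlgSp.Points.map g' q ∈ Set.range (AlgSp.Points.map w.hom) := by
    intro g g' r r' sq sq' hr hr' hq
    obtain ⟨z, hz⟩ := hq
    have l := H.h₄ X Y D Y' f (ObjectProperty.homMk r) (ObjectProperty.homMk f') (ObjectProperty.homMk g)
      sq hf hr W w hw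
      ⟨pullback w.hom g, isAlgSpace_pullback W.property D.property X.property _ _⟩
      (ObjectProperty.homMk (pullback.snd w.hom g)) (ObjectProperty.homMk (pullback.fst w.hom g))
      (IsPullback.of_hasPullback _ _)
    have l' := H.h₄ X Y D Y' f (ObjectProperty.homMk r') (ObjectProperty.homMk f') (ObjectProperty.homMk g')
      sq' hf hr' W w hw
      ⟨pullback w.hom g', isAlgSpace_pullback W.property D.property X.property _ _⟩
      (ObjectProperty.homMk (pullback.snd w.hom g')) (ObjectProperty.homMk (pullback.fst w.hom g'))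
      (IsPullback.of_hasPullback _ _)
    obtain ⟨t, -, ht⟩ := exists_point_of_isPullback (IsPullback.of_hasPullback w.hom g) hz
    obtain ⟨t', ht'⟩ := l'.range_subset _ l.1 l.2.1 ⟨t, ht⟩
    refine ⟨AlgSp.Points.map (pullback.fst w.hom g') t', ?_⟩
    rw [← AlgSp.Points.map_comp, pullback.condition, AlgSp.Points.map_comp]
    exact congrArg _ ht'
  exact ⟨key g₁ g₂ r₁ r₂ sq₁ sq₂ hr₁ hr₂, key g₂ g₁ r₂ r₁ sq₂ sq₁ hr₂ hr₁⟩

/-! ## Charts -/

/-- A chart of the target with the largest open of the base change of the morphism. -/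
structure LgData (P Q : MorphismProperty (Sp S)) (f : 𝒳 ⥤ᵇ 𝒴) where
  /-- the chart of the target -/
  V : AlgSp.Space S
  /-- the chart of the target -/
  y : AlgSt.ofSp V.obj ⥤ᵇ 𝒴
  hy : AlgSt.RepByAlgSpWith (LocP @Smooth) y
  hy' : AlgSt.RepByAlgSpWith IsSurjectiveMor y
  /-- the base change -/
  X : AlgSp.Space S
  /-- the base change -/
  a : X ⟶ V
  /-- the representation -/
  e : AlgSt.ofSp X.obj ⥤ᵇ FibCat.fp y f
  he : FibCat.IsEquivOver e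
  /-- compatibility -/
  ie : BasedFunctor.comp e (FibCat.fpFst y f) ≅ AlgSt.ofSpMap a.hom
  ha : Q a.hom
  /-- the largest open -/
  W : AlgSp.Space S
  /-- the largest open -/
  w : W ⟶ X
  hw : IsLargest P a w

theorem nonempty_lgData (H : LargestHyps P Q R) (h𝒳 : AlgSt.IsAlgStack K₀ 𝒳) (h𝒴 : AlgSt.IsAlgStack K₀ 𝒴)
    {f : 𝒳 ⥤ᵇ 𝒴} (hf : AlgSt.RepByAlgSpWith Q f) : Nonempty (LgData P Q f) := by
  obtain ⟨V, y, hy, hy'⟩ := exists_space_atlas h𝒴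
  obtain ⟨X, a, e, he, ⟨ie⟩, ha⟩ := exists_space_fp H.hQb H.hQ h𝒳.isStack.1 h𝒴.isStack.1 hf V y
  obtain ⟨W, w, hw⟩ := H.h₃ X V a ha
  exact ⟨⟨V, y, hy, hy', X, a, e, he, ie, ha, W, w, hw⟩⟩

namespace LgData

variable {f : 𝒳 ⥤ᵇ 𝒴} (d : LgData P Q f)

/-- The chart of the source. -/
def x : AlgSt.ofSp d.X.obj ⥤ᵇ 𝒳 := BasedFunctor.comp d.e (FibCat.fpSnd d.y f)

theorem hx : AlgSt.RepByAlgSpWith (LocP @Smooth) d.x :=
  repByAlgSpWith_precomp d.he (repByAlgSpWith_fpSnd f d.hy)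

theorem hx' : AlgSt.RepByAlgSpWith IsSurjectiveMor d.x :=
  repByAlgSpWith_precomp d.he (repByAlgSpWith_fpSnd f d.hy')

/-- The locus. -/
def T : Set (AlgSt.Points 𝒳) := Set.range (AlgSt.Points.map (BasedFunctor.comp (AlgSt.ofSpMap d.w.hom) d.x))

theorem isOpen_T (h𝒳 : AlgSt.IsAlgStack K₀ 𝒳) : IsOpen d.T :=
  have hj : AlgSt.RepByAlgSpWith (LocP @Smooth) (AlgSt.ofSpMap d.w.hom) :=
    repByAlgSpWith_mono (fun _ _ _ h => locP_of_repWith (repWith_mono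
      (fun _ _ g (_ : IsOpenImmersion g) => inferInstanceAs (Smooth g)) _ h))
      (repByAlgSpWith_ofSpMap (stableBC_of (P := RepWith @IsOpenImmersion)) d.W.property d.X.property _ d.hw.1)
  have hF := repByAlgSpWith_locP_comp (isFibGrpd_ofSp d.W.obj) (isFibGrpd_ofSp d.X.obj) hj d.hx
  (isOpenMap_pts_map_ofSp h𝒳.isStack.1 d.W (repByAlgSpWith_flat_of_smooth hF)
    (repByAlgSpWith_lfp_of_smooth hF)).isOpen_range

/-- The locus pulls back to the largest open of the chart. -/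
theorem mem_T_iff (H : LargestHyps P Q R) (h𝒳 : AlgSt.IsAlgStack K₀ 𝒳) (h𝒴 : AlgSt.IsAlgStack K₀ 𝒴)
    (p : AlgSt.Points (AlgSt.ofSp d.X.obj)) :
    AlgSt.Points.map d.x p ∈ d.T ↔ spPt p ∈ Set.range (AlgSp.Points.map d.w.hom) := by
  constructor
  swap
  · rintro ⟨z, hz⟩
    obtain ⟨z, rfl⟩ := spPt_bijective.2 z
    rw [← spPt_map_ofSpMap] at hz
    exact ⟨z, by rw [pts_map_comp, spPt_bijective.1 hz]⟩
  rintro ⟨z, hz⟩
  rw [pts_map_comp] at hz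
  let p' := AlgSt.Points.map (AlgSt.ofSpMap d.w.hom) z
  have hp' : spPt p' ∈ Set.range (AlgSp.Points.map d.w.hom) := ⟨spPt z, (spPt_map_ofSpMap _ _).symm⟩
  -- the space of pairs of points of the chart of the target
  have hV : FibCat.IsFibGrpd (AlgSt.ofSp d.V.obj).p := isFibGrpd_ofSp d.V.obj
  obtain ⟨V₂, E, hE⟩ := exists_space_fp_equiv hV h𝒴.isStack.1 (repByAlgSp1_of_repByAlgSpWith d.hy) d.V d.y
  let r₁ : V₂.obj ⟶ d.V.obj := spHom (BasedFunctor.comp E (FibCat.fpFst d.y d.y))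
  let r₂ : V₂.obj ⟶ d.V.obj := spHom (BasedFunctor.comp E (FibCat.fpSnd d.y d.y))
  have hr₁ : R r₁ := H.h₂ V₂ d.V (ObjectProperty.homMk r₁) (locP_spHom_fpFst d.V.property V₂.property d.hy E hE)
  have hr₂ : R r₂ := H.h₂ V₂ d.V (ObjectProperty.homMk r₂) (locP_spHom_fpSnd d.V.property V₂.property d.hy E hE)
  let j₁ := isoOfSpMap (BasedFunctor.comp E (FibCat.fpFst d.y d.y))
  let j₂ := isoOfSpMap (BasedFunctor.comp E (FibCat.fpSnd d.y d.y))
  let β : BasedFunctor.comp (AlgSt.ofSpMap r₁) d.y ≅ BasedFunctor.comp (AlgSt.ofSpMap r₂) d.y :=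
    whiskerRightIso j₁.symm d.y ≪≫ whiskerLeftIso E (FibCat.fpIso d.y d.y) ≪≫ whiskerRightIso j₂ d.y
  have sq₁ := IsPullback.of_hasPullback d.a.hom r₁
  have sq₂ := IsPullback.of_hasPullback d.a.hom r₂
  obtain ⟨e₁, he₁, ⟨i₁⟩, ⟨g₁⟩⟩ := exists_chart_pullback f d.y d.he d.ie sq₁
  obtain ⟨e₂, he₂, ⟨i₂⟩, ⟨g₂⟩⟩ := exists_chart_pullback f d.y d.he d.ie sq₂
  let D : AlgSp.Space S := ⟨_, isAlgSpace_pullback d.X.property V₂.property d.V.property d.a.hom r₁⟩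
  -- the two base changes are isomorphic
  have : (BasedFunctor.id 𝒴).toFunctor.Full := inferInstanceAs (𝟭 _).Full
  have : (BasedFunctor.id 𝒴).toFunctor.Faithful := inferInstanceAs (𝟭 _).Faithful
  let M := fpMap (F := BasedFunctor.comp (AlgSt.ofSpMap r₂) d.y) (G := f)
    (F' := BasedFunctor.comp (AlgSt.ofSpMap r₁) d.y) (G' := f) (a := BasedFunctor.id _) (b := BasedFunctor.id _)
    (c := BasedFunctor.id _) β.symm (Iso.refl _)
  have hM : FibCat.IsEquivOver M := fpMap_isEquivOver _ _ isEquivOver_id isEquivOver_id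
  obtain ⟨u, hu, -, ⟨ju⟩⟩ := isEquivOver_inv he₂
  let Φ := BasedFunctor.comp (BasedFunctor.comp e₁ M) u
  let φ : pullback d.a.hom r₁ ⟶ pullback d.a.hom r₂ := spHom Φ
  have : IsIso φ := isIso_spHom (Φ := Φ) (isEquivOver_comp (isEquivOver_comp he₁ hM) hu)
  let kφ : BasedFunctor.comp (AlgSt.ofSpMap φ) e₂ ≅ BasedFunctor.comp e₁ M :=
    whiskerRightIso (isoOfSpMap Φ).symm e₂ ≪≫ whiskerLeftIso (BasedFunctor.comp e₁ M) ju
  have hφ : φ ≫ pullback.snd d.a.hom r₂ = pullback.snd d.a.hom r₁ := by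
    have h := spHom_congr (Φ := BasedFunctor.comp (AlgSt.ofSpMap φ) (AlgSt.ofSpMap (pullback.snd d.a.hom r₂)))
      (Ψ := AlgSt.ofSpMap (pullback.snd d.a.hom r₁))
      (whiskerLeftIso (AlgSt.ofSpMap φ) i₂.symm ≪≫
        whiskerRightIso kφ (FibCat.fpFst (BasedFunctor.comp (AlgSt.ofSpMap r₂) d.y) f) ≪≫ i₁)
    rwa [spHom_comp, spHom_ofSpMap, spHom_ofSpMap, spHom_ofSpMap] at h
  have sq₂' : IsPullback (φ ≫ pullback.fst d.a.hom r₂) (pullback.snd d.a.hom r₁) d.a.hom r₂ :=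
    sq₂.of_iso (asIso φ).symm (Iso.refl _) (Iso.refl _) (Iso.refl _) (by simp) (by simp [← hφ]) (by simp) (by simp)
  -- the point
  obtain ⟨t, ht, ht'⟩ := exists_pts_fp (isFibGrpd_ofSp d.X.obj) h𝒳.isStack.1 (isFibGrpd_ofSp d.X.obj) d.x d.x p p'
    hz.symm
  obtain ⟨τ, rfl⟩ := AlgSt.Points.mk_surjective t
  let o := τ.obj
  let o₁ := d.e.obj o.obj.fst
  let o₂ := d.e.obj o.obj.snd
  let B := (AlgSt.ofSp d.X.obj).p.obj o.obj.fst
  have hB₁ : (AlgSt.ofSp d.V.obj).p.obj o₁.obj.fst = B := d.e.w_obj o.obj.fst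
  have hB₂ : (AlgSt.ofSp d.V.obj).p.obj o₂.obj.fst = B := (d.e.w_obj o.obj.snd).trans (snd_proj o)
  let ι : d.y.obj o₁.obj.fst ≅ d.y.obj o₂.obj.fst :=
    o₁.obj.iso ≪≫ f.toFunctor.mapIso o.obj.iso ≪≫ o₂.obj.iso.symm
  have hι : 𝒴.p.IsHomLift (𝟙 B) ι.hom := by
    have h1 : 𝒴.p.IsHomLift (𝟙 B) o₁.obj.iso.hom := isHomLift_id_congr hB₁ (fp_iso_lift o₁)
    have h2 : 𝒴.p.IsHomLift (𝟙 B) o₂.obj.iso.hom := isHomLift_id_congr hB₂ (fp_iso_lift o₂)
    have h3 : 𝒳.p.IsHomLift (𝟙 B) o.obj.iso.hom := fp_iso_lift o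
    have h4 : 𝒴.p.IsHomLift (𝟙 B) (f.map o.obj.iso.hom) := f.preserves_isHomLift (𝟙 B) o.obj.iso.hom
    have h5 : 𝒴.p.IsHomLift (𝟙 B) o₂.obj.iso.inv := IsHomLift.lift_id_inv 𝒴.p B o₂.obj.iso
    exact inferInstanceAs (𝒴.p.IsHomLift (𝟙 B) (o₁.obj.iso.hom ≫ f.map o.obj.iso.hom ≫ o₂.obj.iso.inv))
  let η : (FibCat.fp d.y d.y).obj := ⟨⟨o₁.obj.fst, o₂.obj.fst, ι⟩, isHomLift_id_congr hB₁.symm hι⟩
  obtain ⟨v, hv, -, ⟨jv⟩⟩ := isEquivOver_inv hE
  let n := v.obj η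
  let σ : E.obj n ≅ η := isoApp jv η
  have hn : (AlgSt.ofSp V₂.obj).p.obj n = B := (v.w_obj η).trans hB₁
  let a₁ : (AlgSt.ofSpMap r₁).obj n ≅ o₁.obj.fst :=
    isoApp j₁.symm n ≪≫ (FibCat.fpFst d.y d.y).toFunctor.mapIso σ
  let a₂ : (AlgSt.ofSpMap r₂).obj n ≅ o₂.obj.fst :=
    isoApp j₂.symm n ≪≫ (FibCat.fpSnd d.y d.y).toFunctor.mapIso σ
  have hσ : (FibCat.fp d.y d.y).p.IsHomLift (𝟙 B) σ.hom :=
    isoApp_lift jv (a := η) hB₁
  have ha₁ : (AlgSt.ofSp d.V.obj).p.IsHomLift (𝟙 B) a₁.hom := by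
    have h1 : (AlgSt.ofSp d.V.obj).p.IsHomLift (𝟙 B) (isoApp j₁.symm n).hom :=
      isoApp_lift j₁.symm hn
    have h2 : (AlgSt.ofSp d.V.obj).p.IsHomLift (𝟙 B) ((FibCat.fpFst d.y d.y).map σ.hom) :=
      fp_isHomLift_fst (𝟙 B) σ.hom
    exact inferInstanceAs ((AlgSt.ofSp d.V.obj).p.IsHomLift (𝟙 B)
      ((isoApp j₁.symm n).hom ≫ (FibCat.fpFst d.y d.y).map σ.hom))
  have ha₂ : (AlgSt.ofSp d.V.obj).p.IsHomLift (𝟙 B) a₂.hom := by
    have h1 : (AlgSt.ofSp d.V.obj).p.IsHomLift (𝟙 B) (isoApp j₂.symm n).hom :=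
      isoApp_lift j₂.symm hn
    have h2 : (AlgSt.ofSp d.V.obj).p.IsHomLift (𝟙 B) ((FibCat.fpSnd d.y d.y).map σ.hom) :=
      fp_isHomLift_snd' (𝟙 B) σ.hom
    exact inferInstanceAs ((AlgSt.ofSp d.V.obj).p.IsHomLift (𝟙 B)
      ((isoApp j₂.symm n).hom ≫ (FibCat.fpSnd d.y d.y).map σ.hom))
  let η' : (FibCat.fp (BasedFunctor.comp (AlgSt.ofSpMap r₁) d.y) f).obj :=
    ⟨⟨n, o₁.obj.snd, d.y.toFunctor.mapIso a₁ ≪≫ o₁.obj.iso⟩, by
      refine isHomLift_id_congr hn.symm ?_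
      have h1 : 𝒴.p.IsHomLift (𝟙 B) o₁.obj.iso.hom := isHomLift_id_congr hB₁ (fp_iso_lift o₁)
      have h2 : 𝒴.p.IsHomLift (𝟙 B) (d.y.map a₁.hom) := d.y.preserves_isHomLift (𝟙 B) a₁.hom
      exact inferInstanceAs (𝒴.p.IsHomLift (𝟙 B) (d.y.map a₁.hom ≫ o₁.obj.iso.hom))⟩
  let π' : AlgSt.FPt (FibCat.fp (BasedFunctor.comp (AlgSt.ofSpMap r₁) d.y) f) :=
    { K := τ.K, str := τ.str, obj := η', lies := hn.trans τ.lies }
  obtain ⟨q, hq⟩ := (pts_bijective_of_isEquivOver he₁).2 (AlgSt.Points.mk π')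
  let G (r : V₂.obj ⟶ d.V.obj) := fpMap (F := d.y) (G := f) (F' := BasedFunctor.comp (AlgSt.ofSpMap r) d.y)
    (G' := f) (a := AlgSt.ofSpMap r) (b := BasedFunctor.id _) (c := BasedFunctor.id _) (Iso.refl _) (Iso.refl _)
  have k₁ : AlgSt.Points.map (AlgSt.ofSpMap (pullback.fst d.a.hom r₁)) q = p := by
    refine (pts_bijective_of_isEquivOver d.he).1 ?_
    rw [← pts_map_comp, ← pts_map_congr g₁, pts_map_comp, hq, ← ht, ← pts_map_comp]
    refine pts_eq_of_hom (p := π'.map (G r₁)) (q := τ.map (BasedFunctor.comp (FibCat.fpFst d.x d.x) d.e))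
      (fpIsoMk (x := (G r₁).obj η') (y := o₁) a₁ (Iso.refl _) ?_).hom
    show d.y.map a₁.hom ≫ o₁.obj.iso.hom = (𝟙 _ ≫ (d.y.map a₁.hom ≫ o₁.obj.iso.hom) ≫ 𝟙 _) ≫ f.map (𝟙 _)
    simp
  have k₂ : AlgSt.Points.map (AlgSt.ofSpMap (φ ≫ pullback.fst d.a.hom r₂)) q = p' := by
    refine (pts_bijective_of_isEquivOver d.he).1 ?_
    rw [show AlgSt.Points.map (AlgSt.ofSpMap (φ ≫ pullback.fst d.a.hom r₂)) q =
        AlgSt.Points.map (AlgSt.ofSpMap (pullback.fst d.a.hom r₂)) (AlgSt.Points.map (AlgSt.ofSpMap φ) q) from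
      spPt_bijective.1 (by rw [spPt_map_ofSpMap, spPt_map_ofSpMap, spPt_map_ofSpMap, AlgSp.Points.map_comp])]
    rw [← pts_map_comp, ← pts_map_congr g₂, pts_map_comp, ← pts_map_comp (AlgSt.ofSpMap φ), pts_map_congr kφ,
      pts_map_comp, hq, ← ht', ← pts_map_comp, ← pts_map_comp]
    refine pts_eq_of_hom (p := π'.map (BasedFunctor.comp M (G r₂)))
      (q := τ.map (BasedFunctor.comp (FibCat.fpSnd d.x d.x) d.e))
      (fpIsoMk (x := (G r₂).obj (M.obj η')) (y := o₂) a₂ o.obj.iso ?_).hom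
    have hwσ : d.y.map σ.hom.hom.fst ≫ (o₁.obj.iso.hom ≫ f.map o.obj.iso.hom ≫ o₂.obj.iso.inv) =
        (E.obj n).obj.iso.hom ≫ d.y.map σ.hom.hom.snd := σ.hom.hom.w
    show d.y.map ((isoApp j₂.symm n).hom ≫ σ.hom.hom.snd) ≫ o₂.obj.iso.hom =
      (𝟙 _ ≫ ((isoApp β.symm n).hom ≫ (d.y.map a₁.hom ≫ o₁.obj.iso.hom) ≫ 𝟙 _) ≫ 𝟙 _) ≫ f.map o.obj.iso.hom
    have hβ : (isoApp β.symm n).hom = d.y.map (isoApp j₂.symm n).hom ≫ (E.obj n).obj.iso.inv ≫
        d.y.map (isoApp j₁ n).hom := by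
      show (((d.y.map _) ≫ _) ≫ d.y.map _) = _
      simp only [Category.assoc]
      rfl
    have hj : d.y.map (isoApp j₁ n).hom ≫ d.y.map a₁.hom = d.y.map σ.hom.hom.fst := by
      rw [← d.y.toFunctor.map_comp]
      refine congrArg d.y.map ?_
      exact (isoApp j₁ n).hom_inv_id_assoc _
    simp only [Category.id_comp, Category.comp_id, Category.assoc, hβ, reassoc_of% hj, Functor.map_comp]
    have := congrArg (fun t => (E.obj n).obj.iso.inv ≫ t ≫ o₂.obj.iso.hom) hwσ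
    simp only [Category.assoc, Iso.inv_hom_id, Iso.inv_hom_id_assoc, Category.comp_id] at this
    rw [this]
  rw [← k₁, spPt_map_ofSpMap]
  rw [← k₂, spPt_map_ofSpMap] at hp'
  exact (H.mem_range_iff d.ha d.hw (D := D) sq₁ sq₂' hr₁ hr₂ (spPt q)).2 hp'

/-- A substack on which the morphism has the property lies in the locus. -/
theorem map_mem_T (H : LargestHyps P Q R) (h𝒳 : AlgSt.IsAlgStack K₀ 𝒳) {Q₁ : 𝒳.obj → Prop}
    (hQ₁ : AlgSt.IsOpenSubstack 𝒳 Q₁ K₀) (hP₁ : AlgSt.RepByAlgSpWith P (BasedFunctor.comp (AlgSt.subIncl 𝒳 Q₁) f))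
    (t : AlgSt.Points (AlgSt.fullSub 𝒳 Q₁)) : AlgSt.Points.map (AlgSt.subIncl 𝒳 Q₁) t ∈ d.T := by
  have : (BasedFunctor.id 𝒳).toFunctor.Full := inferInstanceAs (𝟭 _).Full
  have : (BasedFunctor.id 𝒳).toFunctor.Faithful := inferInstanceAs (𝟭 _).Faithful
  have hX := isFibGrpd_ofSp d.X.obj
  obtain ⟨W₁, k, hk⟩ := exists_space_fp_equiv hQ₁.2.1.isStack.1 h𝒳.isStack.1
    (repByAlgSp1_of_repByAlgSpWith hQ₁.2.2) d.X d.x
  let j : W₁.obj ⟶ d.X.obj := spHom (BasedFunctor.comp k (FibCat.fpFst d.x (AlgSt.subIncl 𝒳 Q₁)))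
  have hj : RepWith @IsOpenImmersion j :=
    property_spHom_fpFst (stableBC_of (P := RepWith @IsOpenImmersion)) (fun _ _ a ha => repWith_of_repBySpWith a ha)
      d.X.property W₁.property hQ₁.2.2 k hk
  let m := fpMap (F := FibCat.fpSnd d.y f) (G := AlgSt.subIncl 𝒳 Q₁) (F' := d.x) (G' := AlgSt.subIncl 𝒳 Q₁)
    (a := d.e) (b := BasedFunctor.id _) (c := BasedFunctor.id _) (Iso.refl _) (Iso.refl _)
  let k₁ := BasedFunctor.comp k (BasedFunctor.comp m (pasteHor d.y (AlgSt.subIncl 𝒳 Q₁) f))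
  have hk₁ : FibCat.IsEquivOver k₁ :=
    isEquivOver_comp hk (isEquivOver_comp (fpMap_isEquivOver _ _ d.he isEquivOver_id) (pasteHor_isEquivOver _ _ _))
  have hja : spHom (BasedFunctor.comp k₁ (FibCat.fpFst d.y (BasedFunctor.comp (AlgSt.subIncl 𝒳 Q₁) f))) =
      j ≫ d.a.hom := by
    rw [show BasedFunctor.comp k₁ (FibCat.fpFst d.y (BasedFunctor.comp (AlgSt.subIncl 𝒳 Q₁) f)) =
      BasedFunctor.comp (BasedFunctor.comp k (FibCat.fpFst d.x (AlgSt.subIncl 𝒳 Q₁)))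
        (BasedFunctor.comp d.e (FibCat.fpFst d.y f)) from rfl, spHom_comp, spHom_congr d.ie, spHom_ofSpMap]
  have hPj : P (j ≫ d.a.hom) := by
    rw [← hja]
    exact property_spHom_fpFst H.hPb (fun hF hG _ ha => property_of_repBySpWith H.hP hF hG ha)
      d.V.property W₁.property hP₁ k₁ hk₁
  have hsub := d.hw.range_subset (W₁ := W₁) (ObjectProperty.homMk j) hj hPj
  obtain ⟨p, hp⟩ := isSurjective_of_repByAlgSpWith hX h𝒳.isStack.1 (isAlgStack_ofSp d.X).atlas d.hx' (AlgSt.Points.map (AlgSt.subIncl 𝒳 Q₁) t)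
  obtain ⟨s, hs, -⟩ := exists_pts_fp hQ₁.2.1.isStack.1 h𝒳.isStack.1 hX (AlgSt.subIncl 𝒳 Q₁) d.x p t hp
  obtain ⟨s, rfl⟩ := (pts_bijective_of_isEquivOver hk).2 s
  rw [← pts_map_comp, pts_map_congr (isoOfSpMap (BasedFunctor.comp k (FibCat.fpFst d.x (AlgSt.subIncl 𝒳 Q₁))))] at hs
  obtain ⟨z, hz⟩ := hsub ⟨spPt s, rfl⟩
  obtain ⟨z, rfl⟩ := spPt_bijective.2 z
  refine ⟨z, ?_⟩
  rw [pts_map_comp, ← hp, ← hs]
  refine congrArg (AlgSt.Points.map d.x) (spPt_bijective.1 ?_)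
  rw [spPt_map_ofSpMap, spPt_map_ofSpMap]
  exact hz

/-- The morphism has the property on the locus. -/
theorem repByAlgSpWith_T (H : LargestHyps P Q R) (h𝒳 : AlgSt.IsAlgStack K₀ 𝒳) (h𝒴 : AlgSt.IsAlgStack K₀ 𝒴)
    (hf : AlgSt.RepByAlgSp1 f) :
    AlgSt.RepByAlgSpWith P (BasedFunctor.comp (AlgSt.subIncl 𝒳 (PtsIn d.T)) f) := by
  have : (BasedFunctor.id 𝒳).toFunctor.Full := inferInstanceAs (𝟭 _).Full
  have : (BasedFunctor.id 𝒳).toFunctor.Faithful := inferInstanceAs (𝟭 _).Faithful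
  have hX := isFibGrpd_ofSp d.X.obj
  have hQ₀ := isOpenSubstack_ptsIn h𝒳 (d.isOpen_T h𝒳)
  let i := AlgSt.subIncl 𝒳 (PtsIn d.T)
  obtain ⟨W₀, k, hk⟩ := exists_space_fp_equiv hQ₀.2.1.isStack.1 h𝒳.isStack.1
    (repByAlgSp1_of_repByAlgSpWith hQ₀.2.2) d.X d.x
  let Φ := BasedFunctor.comp k (FibCat.fpFst d.x i)
  let j : W₀.obj ⟶ d.X.obj := spHom Φ
  have hj : RepWith @IsOpenImmersion j :=
    property_spHom_fpFst (stableBC_of (P := RepWith @IsOpenImmersion)) (fun _ _ a ha => repWith_of_repBySpWith a ha)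
      d.X.property W₀.property hQ₀.2.2 k hk
  have h1 : Set.range (AlgSp.Points.map j) ⊆ Set.range (AlgSp.Points.map d.w.hom) := by
    rintro _ ⟨s, rfl⟩
    obtain ⟨s, rfl⟩ := spPt_bijective.2 s
    rw [← spPt_map_ofSpMap, ← d.mem_T_iff H h𝒳 h𝒴, ← pts_map_congr (isoOfSpMap Φ), ← pts_map_comp,
      show BasedFunctor.comp Φ d.x = BasedFunctor.comp k (BasedFunctor.comp (FibCat.fpFst d.x i) d.x) from rfl,
      pts_map_congr (whiskerLeftIso k (FibCat.fpIso d.x i)), pts_map_comp, pts_map_comp]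
    exact range_subIncl_ptsIn.subset ⟨_, rfl⟩
  have h2 : Set.range (AlgSp.Points.map d.w.hom) ⊆ Set.range (AlgSp.Points.map j) := by
    intro p hp
    obtain ⟨p, rfl⟩ := spPt_bijective.2 p
    obtain ⟨t, ht⟩ := range_subIncl_ptsIn.superset ((d.mem_T_iff H h𝒳 h𝒴 p).2 hp)
    obtain ⟨s, hs, -⟩ := exists_pts_fp hQ₀.2.1.isStack.1 h𝒳.isStack.1 hX i d.x p t ht.symm
    obtain ⟨s, rfl⟩ := (pts_bijective_of_isEquivOver hk).2 s
    rw [← pts_map_comp, pts_map_congr (isoOfSpMap Φ)] at hs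
    exact ⟨spPt s, by rw [← hs, spPt_map_ofSpMap]⟩
  obtain ⟨l, hl⟩ := exists_lift_openImmersion W₀.property d.W.property d.X.property d.hw.1 j h1
  obtain ⟨l', hl'⟩ := exists_lift_openImmersion d.W.property W₀.property d.X.property hj d.w.hom h2
  have : Mono j := AlgSpDec.mono_of_openImmersion hj
  have : Mono d.w.hom := AlgSpDec.mono_of_openImmersion d.hw.1
  have : IsIso l := ⟨l', (cancel_mono j).1 (by rw [Category.assoc, hl', hl, Category.id_comp]),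
    (cancel_mono d.w.hom).1 (by rw [Category.assoc, hl, hl', Category.id_comp])⟩
  have hPj : P (j ≫ d.a.hom) := by
    rw [← hl, Category.assoc]
    exact H.hPb d.W.property d.V.property W₀.property d.V.property (d.w.hom ≫ d.a.hom) (𝟙 _)
      (l ≫ d.w.hom ≫ d.a.hom) l (IsPullback.of_horiz_isIso ⟨by simp⟩) d.hw.2.1
  let m := fpMap (F := FibCat.fpSnd d.y f) (G := i) (F' := d.x) (G' := i)
    (a := d.e) (b := BasedFunctor.id _) (c := BasedFunctor.id _) (Iso.refl _) (Iso.refl _)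
  let k₁ := BasedFunctor.comp k (BasedFunctor.comp m (pasteHor d.y i f))
  have hk₁ : FibCat.IsEquivOver k₁ :=
    isEquivOver_comp hk (isEquivOver_comp (fpMap_isEquivOver _ _ d.he isEquivOver_id) (pasteHor_isEquivOver _ _ _))
  refine (repByAlgSpWith_iff_exists_cover H.hPb H.hP hQ₀.2.1.isStack.1 h𝒴.isStack.1
    (repByAlgSp1_comp hQ₀.2.1.isStack.1 h𝒳.isStack.1 (repByAlgSp1_of_repByAlgSpWith hQ₀.2.2) hf) d.V d.y
    (locEssSurj_of_atlas d.hy d.hy')).2 ⟨W₀, ObjectProperty.homMk (j ≫ d.a.hom), k₁, hk₁, ⟨?_⟩, hPj⟩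
  exact whiskerRightIso (isoOfSpMap Φ) (BasedFunctor.comp d.e (FibCat.fpFst d.y f)) ≪≫
    whiskerLeftIso (AlgSt.ofSpMap j) d.ie ≪≫ isoOfSpMap _ ≪≫
    eqToIso (congrArg (fun t => AlgSt.ofSpMap t) (by rw [spHom_comp, spHom_ofSpMap, spHom_ofSpMap]; rfl))

/-- The largest open substack is the locus. -/
theorem eq_ptsIn_T (H : LargestHyps P Q R) (h𝒳 : AlgSt.IsAlgStack K₀ 𝒳) (h𝒴 : AlgSt.IsAlgStack K₀ 𝒴)
    (hf : AlgSt.RepByAlgSp1 f) {Q₀ : 𝒳.obj → Prop} (hQ₀ : AlgSt.IsOpenSubstack 𝒳 Q₀ K₀)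
    (hQ₀P : AlgSt.RepByAlgSpWith P (BasedFunctor.comp (AlgSt.subIncl 𝒳 Q₀) f))
    (hQ₀max : ∀ Q₁ : 𝒳.obj → Prop, AlgSt.IsOpenSubstack 𝒳 Q₁ K₀ →
      AlgSt.RepByAlgSpWith P (BasedFunctor.comp (AlgSt.subIncl 𝒳 Q₁) f) → ∀ y, Q₁ y → Q₀ y) :
    Q₀ = PtsIn d.T := by
  refine funext fun b => propext ⟨fun hb => ?_, fun hb =>
    hQ₀max _ (isOpenSubstack_ptsIn h𝒳 (d.isOpen_T h𝒳)) (d.repByAlgSpWith_T H h𝒳 h𝒴 hf) b hb⟩
  rw [eq_ptsIn_range h𝒳 hQ₀] at hb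
  intro p φ
  obtain ⟨t, ht⟩ := hb p φ
  rw [← ht]
  exact d.map_mem_T H h𝒳 hQ₀ hQ₀P t

end LgData

/-- Base change of the data along a representable morphism with `R`. -/
theorem exists_lgData_baseChange (H : LargestHyps P Q R) (h𝒳 : AlgSt.IsAlgStack K₀ 𝒳)
    (h𝒴 : AlgSt.IsAlgStack K₀ 𝒴) (h𝒵 : AlgSt.IsAlgStack K₀ 𝒵) {f : 𝒳 ⥤ᵇ 𝒴} (d : LgData P Q f)
    (z : 𝒵 ⥤ᵇ 𝒴) (hz : AlgSt.RepByAlgSpWith R z) :
    ∃ d' : LgData P Q (FibCat.fpFst z f),
      ∀ p, p ∈ d'.T ↔ AlgSt.Points.map (FibCat.fpSnd z f) p ∈ d.T := by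
  obtain ⟨V', r, ez, hez, ⟨iz⟩, hr⟩ := exists_space_fp H.hRb H.hR h𝒵.isStack.1 h𝒴.isStack.1 hz d.V d.y
  let y' := BasedFunctor.comp ez (FibCat.fpSnd d.y z)
  let β : BasedFunctor.comp y' z ≅ BasedFunctor.comp (AlgSt.ofSpMap r.hom) d.y :=
    whiskerLeftIso ez (FibCat.fpIso d.y z).symm ≪≫ whiskerRightIso iz d.y
  let D : AlgSp.Space S := ⟨_, isAlgSpace_pullback d.X.property V'.property d.V.property d.a.hom r.hom⟩
  let g : D ⟶ d.X := ObjectProperty.homMk (pullback.fst d.a.hom r.hom)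
  let a' : D ⟶ V' := ObjectProperty.homMk (pullback.snd d.a.hom r.hom)
  have sq : IsPullback g.hom a'.hom d.a.hom r.hom := IsPullback.of_hasPullback _ _
  obtain ⟨e₁, he₁, ⟨i₁⟩, ⟨g₁⟩⟩ := exists_chart_pullback f d.y d.he d.ie sq
  have : (BasedFunctor.id 𝒴).toFunctor.Full := inferInstanceAs (𝟭 _).Full
  have : (BasedFunctor.id 𝒴).toFunctor.Faithful := inferInstanceAs (𝟭 _).Faithful
  let M := fpMap (F := BasedFunctor.comp y' z) (G := f)
    (F' := BasedFunctor.comp (AlgSt.ofSpMap r.hom) d.y) (G' := f) (a := BasedFunctor.id _) (b := BasedFunctor.id _)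
    (c := BasedFunctor.id _) β (Iso.refl _)
  obtain ⟨v, hv, -, ⟨jv⟩⟩ := isEquivOver_inv (pasteVert_isEquivOver y' z f)
  let e' := BasedFunctor.comp (BasedFunctor.comp e₁ M) v
  have he' : FibCat.IsEquivOver e' :=
    isEquivOver_comp (isEquivOver_comp he₁ (fpMap_isEquivOver _ _ isEquivOver_id isEquivOver_id)) hv
  let ie' : BasedFunctor.comp e' (FibCat.fpFst y' (FibCat.fpFst z f)) ≅ AlgSt.ofSpMap a'.hom :=
    whiskerRightIso (whiskerLeftIso (BasedFunctor.comp e₁ M) jv) (FibCat.fpFst (BasedFunctor.comp y' z) f) ≪≫ i₁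
  have ha' : Q a'.hom :=
    H.hQb d.X.property d.V.property D.property V'.property _ _ _ _ sq d.ha
  let W' : AlgSp.Space S := ⟨_, isAlgSpace_pullback d.W.property D.property d.X.property d.w.hom g.hom⟩
  let w' : W' ⟶ D := ObjectProperty.homMk (pullback.snd d.w.hom g.hom)
  have hw' : IsLargest P a' w' := H.h₄ d.X d.V D V' d.a r a' g sq d.ha hr d.W d.w d.hw W' w'
    (ObjectProperty.homMk (pullback.fst d.w.hom g.hom)) (IsPullback.of_hasPullback _ _)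
  let d' : LgData P Q (FibCat.fpFst z f) :=
    ⟨V', y', repByAlgSpWith_precomp hez (repByAlgSpWith_fpSnd z d.hy),
      repByAlgSpWith_precomp hez (repByAlgSpWith_fpSnd z d.hy'), D, a', e', he', ie', ha', W', w', hw'⟩
  have hM := isAlgStack_fp h𝒵 h𝒳 h𝒴.isStack h𝒴.diag z f
  refine ⟨d', fun p => ?_⟩
  obtain ⟨q, rfl⟩ := isSurjective_of_repByAlgSpWith (isFibGrpd_ofSp D.obj) hM.isStack.1 (isAlgStack_ofSp D).atlas d'.hx' p
  let js : BasedFunctor.comp d'.x (FibCat.fpSnd z f) ≅ BasedFunctor.comp (AlgSt.ofSpMap g.hom) d.x :=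
    whiskerRightIso (whiskerLeftIso (BasedFunctor.comp e₁ M) jv) (FibCat.fpSnd (BasedFunctor.comp y' z) f) ≪≫
      whiskerRightIso g₁ (FibCat.fpSnd d.y f)
  rw [d'.mem_T_iff H hM h𝒵, ← pts_map_comp, pts_map_congr js, pts_map_comp, d.mem_T_iff H h𝒳 h𝒴,
    spPt_map_ofSpMap]
  constructor
  · rintro ⟨s, hs⟩
    refine ⟨AlgSp.Points.map (pullback.fst d.w.hom g.hom) s, ?_⟩
    rw [← AlgSp.Points.map_comp, pullback.condition, AlgSp.Points.map_comp]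
    exact congrArg _ hs
  · rintro ⟨s, hs⟩
    obtain ⟨t, -, ht⟩ := exists_point_of_isPullback (IsPullback.of_hasPullback d.w.hom g.hom) hs
    exact ⟨t, ht⟩

end Groth.Agent.AlgStLib
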