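import Groth.Agent.AlgStLib.QuasiCompact
import Groth.Agent.AlgStLib.FppfSite
import Groth.Agent.AlgSpLib.Covers
import Groth.Agent.AlgStLib.LocEss

/-! # Quasi-compactness descends along locally essentially surjective functors -/

set_option autoImplicit false
set_option backward.isDefEq.respectTransparency false
set_option backward.isDefEq.respectTransparency.types false

universe u

open CategoryTheory CategoryTheory.Functor CategoryTheory.Limits AlgebraicGeometry Opposite AlgSp
open Groth.Agent.FibBase Groth.Agent.AlgSpLib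

namespace Groth.Agent.AlgStLib

variable {S : Scheme.{u}} {𝒳 𝒴 𝒵 : AlgSt.Cat S}

local notation "K₀" => Scheme.fppfPrecoverage

/-- Quasi-compactness descends along a locally essentially surjective base change. -/
theorem isQuasiCompactMor_of_locEssSurj (h𝒳 : AlgSt.IsAlgStack K₀ 𝒳) (h𝒴 : AlgSt.IsAlgStack K₀ 𝒴)
    {f : 𝒳 ⥤ᵇ 𝒴} {z : 𝒵 ⥤ᵇ 𝒴} (hz : LocEssSurj z)
    (h : AlgSt.IsQuasiCompactMor K₀ (FibCat.fpFst z f)) : AlgSt.IsQuasiCompactMor K₀ f := by
  refine isQuasiCompactMor_of_affine h𝒳 h𝒴.isStack h𝒴.diag fun U u hU => ?_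
  obtain ⟨R, hR, hlift⟩ := hz U u
  obtain ⟨ι, V, v, hf, hp, hs, hR'⟩ := exists_fppf_of_mem_J hR
  have := hU
  obtain ⟨m, W, idx, k, hW, hk, hcov⟩ := exists_affine_refinement V v
    (fun i => isOpenMap_of_flat_lfp _ (hf i) (hp i)) hs
  have hfp := isAlgStack_fp (isAlgStack_overCat U) h𝒳 h𝒴.isStack h𝒴.diag u f
  let M : Fin m → _ := fun j => FibCat.fp (AlgSt.overMap (k j ≫ v (idx j))) (FibCat.fpFst u f)
  let π : ∀ j, M j ⥤ᵇ FibCat.fp u f := fun j =>
    FibCat.fpSnd (AlgSt.overMap (k j ≫ v (idx j))) (FibCat.fpFst u f)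
  have hM : ∀ j, IsCompact (Set.range (AlgSt.Points.map (π j))) := by
    intro j
    obtain ⟨z', ⟨i⟩⟩ := hlift (k j ≫ v (idx j)) (R.downward_closed (hR' (idx j)) (k j))
    have : IsAffine (W j).left := hW j
    have h1 : AlgSt.IsQuasiCompact (FibCat.fp (BasedFunctor.comp z' z) f) :=
      isQuasiCompact_of_equiv (pasteVert_isEquivOver z' z f)
        (h _ (isAlgStack_overCat (W j)) (isQuasiCompact_overCat (W j)) z')
    have h2 : AlgSt.IsQuasiCompact (FibCat.fp (BasedFunctor.comp (AlgSt.overMap (k j ≫ v (idx j))) u) f) :=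
      isQuasiCompact_of_equiv
        (fpMap_isEquivOver (F := BasedFunctor.comp (AlgSt.overMap (k j ≫ v (idx j))) u) (G := f)
          (F' := BasedFunctor.comp z' z) (G' := f) (a := BasedFunctor.id _) (b := BasedFunctor.id _)
          (c := BasedFunctor.id _) i.symm (Iso.refl _) isEquivOver_id isEquivOver_id) h1
    have h3 : AlgSt.IsQuasiCompact (M j) :=
      isQuasiCompact_of_equiv' (pasteVert_isEquivOver (AlgSt.overMap (k j ≫ v (idx j))) u f) h2
    have hMs := isAlgStack_fp (isAlgStack_overCat (W j)) hfp (isAlgStack_overCat U).isStack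
      (isAlgStack_overCat U).diag (AlgSt.overMap (k j ≫ v (idx j))) (FibCat.fpFst u f)
    have := (isQuasiCompact_iff_compactSpace_points hMs.isStack.1 hMs.atlas).1 h3
    exact isCompact_range (continuous_pts_map hfp.isStack.1 hfp.atlas (π j))
  refine (isQuasiCompact_iff_compactSpace_points hfp.isStack.1 hfp.atlas).2 ⟨?_⟩
  have hall : (Set.univ : Set (AlgSt.Points (FibCat.fp u f))) = ⋃ j, Set.range (AlgSt.Points.map (π j)) := by
    refine (Set.eq_univ_of_forall fun p => ?_).symm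
    obtain ⟨t, ht⟩ := ptAt_surjective U (AlgSt.Points.map (FibCat.fpFst u f) p)
    obtain ⟨j, s, hs'⟩ := hcov t
    refine Set.mem_iUnion.2 ⟨j, ?_⟩
    obtain ⟨w, -, hw⟩ := exists_pts_fp hfp.isStack.1 (isFibGrpd_overCat U) (isFibGrpd_overCat (W j))
      (FibCat.fpFst u f) (AlgSt.overMap (k j ≫ v (idx j))) (ptAt (W j) s) p
      (by rw [map_overMap_ptAt, hs', ht])
    exact ⟨w, hw⟩
  rw [hall]
  exact isCompact_iUnion hM

end Groth.Agent.AlgStLib
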