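import Groth.Agent.AlgStLib.SepUnivClosed
import Groth.Agent.AlgStLib.UnivInj
import Groth.Agent.AlgStLib.LocQDescent
import Groth.Agent.AlgStLib.SpProps
import Groth.Agent.AlgStLib.Source
import Groth.Agent.AlgSpPts.SepDescent

/-!
# Separatedness descends along flat surjective universally injective morphisms with universally closed diagonal
-/

set_option autoImplicit false
set_option backward.isDefEq.respectTransparency false
set_option backward.isDefEq.respectTransparency.types false

universe u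

open CategoryTheory CategoryTheory.Functor CategoryTheory.Limits AlgebraicGeometry Opposite AlgSp

namespace Groth.Agent.AlgStLib

open Groth.Agent.FibBase Groth.Agent.AlgSpLib

variable {S : Scheme.{u}} {𝒳 𝒴 𝒵 : AlgSt.Cat S}

local notation "K₀" => Scheme.fppfPrecoverage

theorem isUnivClosedMor_of_comp_surjective {F' F G : Sp S} (hF' : IsAlgSpace F') (hF : IsAlgSpace F)
    (hG : IsAlgSpace G) (b : F' ⟶ F) (a : F ⟶ G) (hb : IsSurjectiveMor b) (h : IsUnivClosedMor (b ≫ a)) :
    IsUnivClosedMor a := by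
  intro Z Z' hZ g fst snd sq C hC
  have hs : IsSurjectiveMor (pullback.snd b fst) :=
    stableBC_isSurjectiveMor hF' hF (isAlgSpace_pullback hF' (isAlgSpace_of_isPullback sq hF hZ hG) hF b fst)
      (isAlgSpace_of_isPullback sq hF hZ hG) b fst (pullback.snd b fst) (pullback.fst b fst)
      (IsPullback.of_hasPullback b fst) hb
  have hsnd := h hZ g (pullback.fst b fst) (pullback.snd b fst ≫ snd)
    ((IsPullback.of_hasPullback b fst).paste_vert sq)
  have hc : IsClosedMap (AlgSp.Points.map (pullback.snd b fst ≫ snd)) := hsnd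
  have he : AlgSp.Points.map snd '' C =
      AlgSp.Points.map (pullback.snd b fst ≫ snd) '' (AlgSp.Points.map (pullback.snd b fst) ⁻¹' C) := by
    rw [show AlgSp.Points.map (pullback.snd b fst ≫ snd) =
      AlgSp.Points.map snd ∘ AlgSp.Points.map (pullback.snd b fst) from funext (AlgSp.Points.map_comp _ _),
      Set.image_comp, Set.image_preimage_eq C hs]
  rw [he]
  exact hc _ (hC.preimage (AlgSp.Points.continuous_map _))

/-- Properness descends along surjective universally closed morphisms of the source. -/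
theorem isProperMor_of_comp {F' F G : AlgSp.Space S} (b : F' ⟶ F) (a : F ⟶ G) (hb : IsSurjectiveMor b.hom)
    (hb' : IsUnivClosedMor b.hom) (h : IsProperMor (b ≫ a).hom) (ha : LocP @LocallyOfFiniteType a.hom) :
    IsProperMor a.hom := by
  have hc := isUnivClosedMor_of_comp_surjective F'.property F.property G.property b.hom a.hom hb h.2.2
  exact ⟨(Groth.Agent.AlgSpPts.diag_descends b.hom a.hom F'.property F.property G.property hb' hb).2 h.1,
    ⟨ha, Groth.Agent.AlgSpPts.isQuasiCompactMor_of_univClosed F.property G.property hc⟩, hc⟩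

theorem isSeparatedMor_descend (h𝒳 : AlgSt.IsAlgStack K₀ 𝒳) (h𝒴 : AlgSt.IsAlgStack K₀ 𝒴)
    (h𝒵 : AlgSt.IsAlgStack K₀ 𝒵) (f : 𝒳 ⥤ᵇ 𝒴) (g : 𝒴 ⥤ᵇ 𝒵) (hf₁ : AlgSt.IsSurjective f)
    (hf₂ : AlgSt.LocQ (LocP @Flat) f) (hf₃ : AlgSt.LocQ (LocP @LocallyOfFinitePresentation) f)
    (hf₄ : AlgSt.IsUnivInjective K₀ f) (hf₅ : AlgSt.RepByAlgSpWith IsUnivClosedMor (FibCat.diag f))
    (hh : AlgSt.IsSeparatedMor (BasedFunctor.comp f g)) : AlgSt.IsSeparatedMor g := by
  have hes := locEssSurj_of_locQ h𝒳 h𝒴 hf₂ hf₃ hf₁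
  have hXX := fp_isFibGrpd (F := f) (G := f) h𝒳.isStack.1 h𝒳.isStack.1 h𝒴.isStack.1
  have hΔ : AlgSt.RepByAlgSp1 (FibCat.diag g) := repByAlgSp1_diag h𝒴.diag h𝒵.diag g
  have hl : AlgSt.RepByAlgSpWith (LocP @LocallyOfFiniteType) (FibCat.diag g) :=
    repByAlgSpWith_lft_diag h𝒴 h𝒵 g
  let q := weaken f f g
  have hql : AlgSt.RepByAlgSpWith (LocP @LocallyOfFiniteType) q := repByAlgSpWith_weaken f f g hl
  have hsurj : AlgSt.RepByAlgSpWith IsSurjectiveMor (FibCat.diag f) :=
    repByAlgSpWith_surjective_of_isSurjective h𝒳.isStack.1 hXX (repByAlgSp1_of_repByAlgSpWith hf₅)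
      ((isUnivInjective_iff_isSurjective_diag h𝒳 h𝒴.isStack.1 f).1 hf₄)
  have hcomp : AlgSt.RepByAlgSpWith IsProperMor (BasedFunctor.comp (FibCat.diag f) q) :=
    repByAlgSpWith_of_iso (diagCompIso f g).symm hh
  have hq : AlgSt.RepByAlgSpWith IsProperMor q := fun U y => by
    obtain ⟨F, e, he, ha⟩ := hql U y
    refine ⟨F, e, he, ?_⟩
    let K : AlgSt.ofSp F.obj ⥤ᵇ FibCat.fp f f := BasedFunctor.comp e (FibCat.fpSnd y q)
    obtain ⟨F', b, e', he', ⟨i⟩, hb⟩ := exists_space_fp stableBC_isUnivClosedMor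
      (isLocalOnBase_fppf_of_fpqc isLocalOnBase_fpqc_isUnivClosedMor) h𝒳.isStack.1 hXX hf₅ F K
    have hbs : IsSurjectiveMor b.hom := by
      have := surj_spHom_fpFst F.property F'.property hsurj e' he'
      rwa [spHom_congr i, spHom_ofSpMap] at this
    have : (BasedFunctor.id (FibCat.fp f f)).toFunctor.Full := inferInstanceAs (𝟭 _).Full
    have : (BasedFunctor.id (FibCat.fp f f)).toFunctor.Faithful := inferInstanceAs (𝟭 _).Faithful
    let k := fpMap (F := FibCat.fpSnd y q) (G := FibCat.diag f) (F' := K) (G' := FibCat.diag f) (a := e)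
      (b := BasedFunctor.id _) (c := BasedFunctor.id _) (Iso.refl _) (Iso.refl _)
    let E := BasedFunctor.comp e' (BasedFunctor.comp k (pasteHor y (FibCat.diag f) q))
    have hE : FibCat.IsEquivOver E := isEquivOver_comp he' (isEquivOver_comp
      (fpMap_isEquivOver _ _ he isEquivOver_id) (pasteHor_isEquivOver y (FibCat.diag f) q))
    have hP := ((show RepOver IsProperMor (FibCat.fpFst y (BasedFunctor.comp (FibCat.diag f) q)) from
      hcomp U y).property_of_stableBC stableBC_isProperMor E hE).2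
    let j : BasedFunctor.comp E (FibCat.fpFst y (BasedFunctor.comp (FibCat.diag f) q)) ≅
        BasedFunctor.comp (AlgSt.ofSpMap b.hom) (BasedFunctor.comp e (FibCat.fpFst y q)) :=
      whiskerRightIso i (BasedFunctor.comp e (FibCat.fpFst y q))
    rw [spMapOfOver_congr j, spMapOfOver_comp, spHom_ofSpMap] at hP
    exact isProperMor_of_comp (G := ⟨_, IsAlgSpace.yon_obj U⟩) b
      (ObjectProperty.homMk (AlgSt.spMapOfOver (BasedFunctor.comp e (FibCat.fpFst y q)))) hbs hb hP ha
  exact repByAlgSpWith_of_locEssSurj stableBC_isProperMor isLocalOnBase_isProperMor hΔ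
    (locEssSurj_pairMap g hes hes)
    ((repByAlgSpWith_iff_of_square (f' := weaken f f g) (f := FibCat.fpFst (pairMap f f g) (FibCat.diag g))
      (a := diagComparison f f g) (b := BasedFunctor.id _)
      (diagComparison_isEquivOver f f g) isEquivOver_id (Iso.refl _)).2 hq)

end Groth.Agent.AlgStLib
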