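import Groth.Agent.AlgStLib.SmoothBootstrap
import Groth.Agent.AlgStLib.Bootstrap

/-! # Etale algebraic stacks fibred in setoids are algebraic spaces -/

set_option autoImplicit false
set_option backward.isDefEq.respectTransparency false
set_option backward.isDefEq.respectTransparency.types false

universe u

open CategoryTheory CategoryTheory.Limits AlgebraicGeometry Opposite AlgSp
open Groth.Agent.AlgSpLib Groth.Agent.FibBase

namespace Groth.Agent.AlgStLib

variable {S : Scheme.{u}}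

/-- An algebraic stack for the etale topology fibred in setoids is representable by an algebraic space. -/
theorem repByAlgSp_of_isFibSetoid_etale {𝒳 : AlgSt.Cat S} (h : AlgSt.IsAlgStack Scheme.etalePrecoverage 𝒳)
    (hs : FibCat.IsFibSetoid 𝒳.p) : AlgSt.RepByAlgSp 𝒳 := by
  let P := clsPsh 𝒳 hs.1
  obtain ⟨e, he, -⟩ := isEquivOver_inv (toCls_isEquivOver 𝒳 hs.1 hs)
  have hP : Presheaf.IsSheaf (QuotSh.J Scheme.etalePrecoverage S) P := (isSheaf_iff_isSheaf_of_type _ _).2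
    ((StkLib.isStack_ofPsh_iff P (QuotSh.J Scheme.etalePrecoverage S)).1
      ((StkLib.isStack_iff_of_isEquivOver (J := QuotSh.J Scheme.etalePrecoverage S) he).2 h.isStack))
  obtain ⟨U, x, hxs, hxj⟩ := h.atlas
  let Φ : Stk.ofPsh ((pyon S).obj U) ⥤ᵇ Stk.ofPsh P :=
    BasedFunctor.comp (BasedFunctor.comp (AlgSt.toOverCat U) x) (toCls 𝒳 hs.1)
  have hT := toCls_isEquivOver 𝒳 hs.1 hs
  let p : (pyon S).obj U ⟶ P := pshMap Φ
  have hq : ∀ {Q : MorphismProperty (Sp S)}, StableBC Q → AlgSt.RepByAlgSpWith Q x →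
      RepBySpWith Q p := fun {Q} hQ hx =>
    repBySpWith_of_repByAlgSpWith (BasedFunctor.comp x (toCls 𝒳 hs.1)) (AlgSt.toOverCat U) hQ
      (isEquivOver_toOverCat U)
      ((repByAlgSpWith_iff_of_square (f := BasedFunctor.comp x (toCls 𝒳 hs.1)) (f' := x)
        (a := BasedFunctor.id _) (b := toCls 𝒳 hs.1) isEquivOver_id hT (Iso.refl _)).2 hx)
      (isoOfPshMap Φ)
  have hp : RepBySpWith (IsSurjectiveMor ⊓ LocP @Smooth) p := fun T ξ F' fst snd sq => by
    obtain ⟨h₁, hA, hl⟩ := hq stableBC_locP hxs ξ fst snd sq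
    obtain ⟨h₂, hA₂, hj⟩ := hq stableBC_isSurjectiveMor hxj ξ fst snd sq
    exact ⟨h₁, hA, hj, hl⟩
  obtain ⟨h', hA⟩ := Groth.Agent.AlgSpDec.isAlgSpaceP_of_smooth_sheaf_space hP
    (U := (yon S).obj U) (IsAlgSpace.yon_obj U) (p := p) hp
  exact ⟨⟨⟨P, h'⟩, hA⟩, e, he⟩

end Groth.Agent.AlgStLib
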