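import Groth.Agent.AlgStLib.SmoothLocusSt
import Groth.Agent.AlgStLib.ChartBC
import Groth.Agent.SrcDescent.SmoothFppf
import Groth.Agent.S2155

/-!
# The smooth locus and flat base change
-/

set_option autoImplicit false
set_option backward.isDefEq.respectTransparency false
set_option backward.isDefEq.respectTransparency.types false

universe u

open CategoryTheory CategoryTheory.Functor CategoryTheory.Limits AlgebraicGeometry Opposite AlgSp
open Groth.Agent.FibBase Groth.Agent.AlgSpLib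

namespace Groth.Agent.AlgStLib

theorem mem_smoothOpen_iff_smoothLocus {X Y : Scheme.{u}} (h : X ⟶ Y) [LocallyOfFinitePresentation h] (x : X) :
    x ∈ smoothOpen h ↔ x ∈ h.smoothLocus := by
  constructor
  · intro hx
    obtain ⟨W₀, hW, hxW⟩ := TopologicalSpace.Opens.mem_sSup.1 hx
    let W : X.Opens := W₀
    have : Smooth (Scheme.Opens.ι W ≫ h) := hW
    have h1 : (⟨x, hxW⟩ : W.toScheme) ∈ (W.ι ≫ h).smoothLocus := by
      rw [(W.ι ≫ h).smoothLocus_eq_top]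
      trivial
    rwa [← Scheme.Hom.preimage_smoothLocus_eq] at h1
  · intro hx
    refine TopologicalSpace.Opens.mem_sSup.2 ⟨h.smoothLocus, ?_, hx⟩
    show Smooth (h.smoothLocus.ι ≫ h)
    rw [← Scheme.Hom.smoothLocus_eq_top_iff, ← Scheme.Hom.preimage_smoothLocus_eq]
    exact Scheme.Opens.ι_preimage_self _

theorem mem_smoothOpen_of_baseChange {X S X' S' : Scheme.{u}} {h : X ⟶ S} {y : S' ⟶ S} {snd : X' ⟶ S'}
    {fst : X' ⟶ X} (sq : IsPullback fst snd h y) [Flat y] (hp : LocallyOfFinitePresentation h) (w : X')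
    (hw : w ∈ smoothOpen snd) : fst w ∈ smoothOpen h := by
  have : LocallyOfFinitePresentation h := hp
  have : LocallyOfFinitePresentation snd :=
    MorphismProperty.of_isPullback (P := @LocallyOfFinitePresentation) sq hp
  rw [mem_smoothOpen_iff_smoothLocus] at hw ⊢
  have e := Groth.Agent.S2155.result h y snd fst sq (Or.inr ‹_›)
  exact (SetLike.ext_iff.1 e w).1 hw

theorem mem_smoothOpen_of_mem_opens {X Y : Scheme.{u}} (O : X.Opens) (h : X ⟶ Y) (z : O.toScheme)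
    (hz : z ∈ smoothOpen (O.ι ≫ h)) : O.ι z ∈ smoothOpen h := by
  have := smooth_smoothOpen (O.ι ≫ h)
  have h1 := mem_smoothOpen_of_precomp ((smoothOpen (O.ι ≫ h)).ι ≫ O.ι) h
    (by rw [Category.assoc]; infer_instance) ⟨z, hz⟩
  exact h1

/-- The smooth open commutes with flat base change. -/
theorem preimage_smoothOpen {X S X' S' : Scheme.{u}} {h : X ⟶ S} {y : S' ⟶ S} {snd : X' ⟶ S'} {fst : X' ⟶ X}
    (sq : IsPullback fst snd h y) [Flat y]
    (hfp : LocallyOfFinitePresentation y ∨ LocallyOfFinitePresentation h) :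
    smoothOpen snd = fst ⁻¹ᵁ smoothOpen h := by
  refine le_antisymm (fun w hw => ?_) (le_sSup ?_)
  swap
  · have := smooth_smoothOpen h
    exact MorphismProperty.of_isPullback (P := @Smooth)
      (IsPullback.paste_vert (isPullback_morphismRestrict fst (smoothOpen h)) sq) this
  obtain hp | hp := hfp
  · obtain ⟨W₀, hW, hwW⟩ := TopologicalSpace.Opens.mem_sSup.1 hw
    let W : X'.Opens := W₀
    have : Smooth (W.ι ≫ snd) := hW
    have : Flat fst := MorphismProperty.of_isPullback (P := @Flat) sq.flip ‹_›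
    have : LocallyOfFinitePresentation fst :=
      MorphismProperty.of_isPullback (P := @LocallyOfFinitePresentation) sq.flip hp
    let k := W.ι ≫ fst
    let O : X.Opens := ⟨Set.range k, k.isOpenMap.isOpen_range⟩
    let k' : W.toScheme ⟶ O.toScheme :=
      IsOpenImmersion.lift O.ι k (by rw [Scheme.Opens.range_ι]; exact subset_rfl)
    have hk' : k' ≫ O.ι = k := IsOpenImmersion.lift_fac _ _ _
    have : Flat k' :=
      MorphismProperty.of_postcomp (W := @Flat) (W' := @IsOpenImmersion) k' O.ι inferInstance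
        (by rw [hk']; exact inferInstanceAs (Flat (W.ι ≫ fst)))
    have : LocallyOfFinitePresentation k' :=
      MorphismProperty.of_postcomp (W := @LocallyOfFinitePresentation) (W' := @IsOpenImmersion) k' O.ι inferInstance
        (by rw [hk']; exact inferInstanceAs (LocallyOfFinitePresentation (W.ι ≫ fst)))
    have : Surjective k' := ⟨fun z => by
      obtain ⟨v, hv⟩ : O.ι z ∈ Set.range k := z.2
      refine ⟨v, O.ι.injective ?_⟩
      rw [← Scheme.Hom.comp_apply, hk', hv]⟩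
    have : LocallyOfFinitePresentation (k' ≫ O.ι ≫ h) := by
      rw [← Category.assoc, hk', show k ≫ h = (W.ι ≫ snd) ≫ y from by
        rw [Category.assoc, Category.assoc, sq.w]]
      infer_instance
    have hOh : LocallyOfFinitePresentation (O.ι ≫ h) :=
      Groth.Agent.SrcDescent.locallyOfFinitePresentation_of_fppf_comp k' _
    have sqO := IsPullback.paste_vert (isPullback_morphismRestrict fst O) sq
    have : LocallyOfFinitePresentation ((fst ⁻¹ᵁ O).ι ≫ snd) :=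
      MorphismProperty.of_isPullback (P := @LocallyOfFinitePresentation) sqO hOh
    have hw' : w ∈ fst ⁻¹ᵁ O := ⟨⟨w, hwW⟩, rfl⟩
    let j : (W ⊓ fst ⁻¹ᵁ O : X'.Opens).toScheme ⟶ (fst ⁻¹ᵁ O).toScheme := X'.homOfLE inf_le_right
    have hj : j ⟨w, hwW, hw'⟩ = (⟨w, hw'⟩ : (fst ⁻¹ᵁ O).toScheme) := by
      refine (fst ⁻¹ᵁ O).ι.injective ?_
      rw [← Scheme.Hom.comp_apply, Scheme.homOfLE_ι]
      rfl
    have h1 : (⟨w, hw'⟩ : (fst ⁻¹ᵁ O).toScheme) ∈ smoothOpen ((fst ⁻¹ᵁ O).ι ≫ snd) := by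
      rw [← hj]
      refine mem_smoothOpen_of_precomp j _ ?_ _
      rw [show j ≫ (fst ⁻¹ᵁ O).ι ≫ snd = X'.homOfLE inf_le_left ≫ W.ι ≫ snd by simp [j]]
      infer_instance
    have h2 := mem_smoothOpen_of_mem_opens O h _ (mem_smoothOpen_of_baseChange sqO hOh _ h1)
    rw [← Scheme.Hom.comp_apply, morphismRestrict_ι, Scheme.Hom.comp_apply] at h2
    exact h2
  · exact mem_smoothOpen_of_baseChange sq hp w hw

variable {S : Scheme.{u}} {𝒳 𝒴 𝒴' : AlgSt.Cat S}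

local notation "K₀" => Scheme.fppfPrecoverage

/-- The smooth locus pulls back to the smooth open of a chart. -/
theorem SmData.preimage_T {f : 𝒳 ⥤ᵇ 𝒴} (d : SmData f) (h𝒳 : AlgSt.IsAlgStack K₀ 𝒳) (h𝒴 : AlgSt.IsAlgStack K₀ 𝒴)
    (u : ↥d.U.left) : AlgSt.Points.ofChart d.x u ∈ d.T ↔ u ∈ d.Ω := by
  refine ⟨fun hu => ?_, fun hu => ⟨u, hu, rfl⟩⟩
  have hQ := isOpenSubstack_ptsIn h𝒳 (d.isOpen_T h𝒳 h𝒴)
  have hg := locQ_smooth_subIncl h𝒳 hQ
  obtain ⟨p, hp⟩ := range_subIncl_ptsIn.superset hu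
  exact d.mem_Ω_of_pt h𝒳 h𝒴 hQ.2.1 _ hg
    (d.locQ_comp_of_range_subset h𝒳 h𝒴 hQ.2.1 _ hg fun q => range_subIncl_ptsIn.subset ⟨q, rfl⟩) p u hp

/-- A largest open substack on which the morphism is smooth is the smooth locus. -/
theorem SmData.eq_ptsIn_T {f : 𝒳 ⥤ᵇ 𝒴} (d : SmData f) (h𝒳 : AlgSt.IsAlgStack K₀ 𝒳) (h𝒴 : AlgSt.IsAlgStack K₀ 𝒴)
    {Q : 𝒳.obj → Prop} (hQ₁ : AlgSt.IsOpenSubstack 𝒳 Q K₀)
    (hQ₂ : AlgSt.LocQ (LocP @Smooth) (BasedFunctor.comp (AlgSt.subIncl 𝒳 Q) f))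
    (hQ₃ : ∀ Q' : 𝒳.obj → Prop, AlgSt.IsOpenSubstack 𝒳 Q' K₀ →
      AlgSt.LocQ (LocP @Smooth) (BasedFunctor.comp (AlgSt.subIncl 𝒳 Q') f) → ∀ a, Q' a → Q a) :
    Q = PtsIn d.T := by
  have hP := isOpenSubstack_ptsIn h𝒳 (d.isOpen_T h𝒳 h𝒴)
  refine funext fun a => propext ⟨fun ha => ?_, fun ha => hQ₃ _ hP
    (d.locQ_comp_of_range_subset h𝒳 h𝒴 hP.2.1 _ (locQ_smooth_subIncl h𝒳 hP)
      fun p => range_subIncl_ptsIn.subset ⟨p, rfl⟩) a ha⟩
  rw [eq_ptsIn_range h𝒳 hQ₁] at ha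
  intro p φ
  obtain ⟨w, hw⟩ := ha p φ
  rw [← hw]
  exact d.range_subset h𝒳 h𝒴 hQ₁.2.1 _ (locQ_smooth_subIncl h𝒳 hQ₁) hQ₂ w

set_option maxHeartbeats 400000 in
/-- The smooth locus commutes with flat base change. -/
theorem exists_smData_baseChange (h𝒳 : AlgSt.IsAlgStack K₀ 𝒳) (h𝒴 : AlgSt.IsAlgStack K₀ 𝒴)
    (h𝒴' : AlgSt.IsAlgStack K₀ 𝒴') {f : 𝒳 ⥤ᵇ 𝒴} (y : 𝒴' ⥤ᵇ 𝒴) (d : SmData f)
    (hy : AlgSt.LocQ (LocP @Flat) y)
    (hfp : AlgSt.LocQ (LocP @LocallyOfFinitePresentation) y ∨ AlgSt.LocQ (LocP @LocallyOfFinitePresentation) f) :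
    ∃ d' : SmData (FibCat.fpFst y f), ∀ p, p ∈ d'.T ↔ AlgSt.Points.map (FibCat.fpSnd y f) p ∈ d.T := by
  have : (BasedFunctor.id 𝒴).toFunctor.Full := inferInstanceAs (𝟭 _).Full
  have : (BasedFunctor.id 𝒴).toFunctor.Faithful := inferInstanceAs (𝟭 _).Faithful
  have : (BasedFunctor.id 𝒴').toFunctor.Full := inferInstanceAs (𝟭 _).Full
  have : (BasedFunctor.id 𝒴').toFunctor.Faithful := inferInstanceAs (𝟭 _).Faithful
  obtain ⟨V', c₂, hc₂, hc₂'⟩ := exists_atlas_fp h𝒴' (isAlgStack_overCat d.V) h𝒴 y d.y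
  obtain ⟨k₀, ⟨j₂⟩⟩ := exists_mapB (BasedFunctor.comp c₂ (FibCat.fpSnd y d.y))
  have hk₀ : Flat k₀.left := locP_yon_map (P := @Flat)
    ((locQS_of_locQ isSmoothLocalST_flat h𝒴'.isStack.1 h𝒴.isStack.1 hy).scheme c₂ d.hy hc₂ j₂.symm)
  have hfp' : LocallyOfFinitePresentation k₀.left ∨ LocallyOfFinitePresentation d.h.left :=
    hfp.imp
      (fun h => locP_yon_map (P := @LocallyOfFinitePresentation)
        ((locQS_of_locQ isSmoothLocalST_lfp h𝒴'.isStack.1 h𝒴.isStack.1 h).scheme c₂ d.hy hc₂ j₂.symm))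
      (fun h => locP_yon_map (P := @LocallyOfFinitePresentation)
        ((locQS_of_locQ isSmoothLocalST_lfp h𝒳.isStack.1 h𝒴.isStack.1 h).scheme d.c d.hy d.hc d.i))
  let y' := BasedFunctor.comp c₂ (FibCat.fpFst y d.y)
  let β₀ : BasedFunctor.comp y' y ≅ BasedFunctor.comp (AlgSt.overMap k₀) d.y :=
    whiskerLeftIso c₂ (FibCat.fpIso y d.y) ≪≫ whiskerRightIso j₂.symm d.y
  have hgy := fp_isFibGrpd (F := y) (G := d.y) h𝒴'.isStack.1 (isFibGrpd_overCat d.V) h𝒴.isStack.1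
  -- the charts as spaces
  let Usp : AlgSp.Space S := ⟨_, IsAlgSpace.yon_obj d.U⟩
  let Vsp : AlgSp.Space S := ⟨_, IsAlgSpace.yon_obj d.V⟩
  let Vsp' : AlgSp.Space S := ⟨_, IsAlgSpace.yon_obj V'⟩
  let ys : AlgSt.ofSp Vsp.obj ⥤ᵇ 𝒴 := BasedFunctor.comp (AlgSt.toOverCat d.V) d.y
  let ys' : AlgSt.ofSp Vsp'.obj ⥤ᵇ 𝒴' := BasedFunctor.comp (AlgSt.toOverCat V') y'
  let m := fpMap (F := f) (G := ys) (F' := f) (G' := d.y)
    (a := BasedFunctor.id _) (b := AlgSt.ofOverCat d.V) (c := BasedFunctor.id _) (Iso.refl _)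
    (whiskerRightIso (ofOverCatIso d.V) d.y).symm
  have hm : FibCat.IsEquivOver m := fpMap_isEquivOver _ _ isEquivOver_id (isEquivOver_ofOverCat d.V)
  let cs : AlgSt.ofSp Usp.obj ⥤ᵇ FibCat.fp f ys :=
    BasedFunctor.comp (AlgSt.toOverCat d.U) (BasedFunctor.comp d.c m)
  obtain ⟨D, p, q, c', sq, hq, ⟨jf⟩, hs, hs'⟩ := exists_chart_baseChange' (g := y) (y' := ys')
    h𝒳.isStack.1 h𝒴.isStack.1
    (show BasedFunctor.comp ys' y ≅ BasedFunctor.comp (AlgSt.ofSpMap (F := Vsp'.obj) (G := Vsp.obj) ((yon S).map k₀)) ys from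
      whiskerLeftIso (AlgSt.toOverCat V') β₀ ≪≫ whiskerRightIso (toOverCatMapIso k₀) d.y) cs
  have hh : spHom (F := (yon S).obj d.U) (G := (yon S).obj d.V) (BasedFunctor.comp cs (FibCat.fpSnd f ys)) =
      (yon S).map d.h := by
    refine Eq.trans ?_ (spHom_toOverCat_comp d.i)
    exact congrArg spHom rfl
  rw [hh] at sq
  let P : Over S := pullback d.h k₀
  have sqP := (IsPullback.of_hasPullback d.h k₀).map (yon S)
  let e := sqP.isoIsPullback _ _ sq
  have hep : e.hom ≫ p = (yon S).map (pullback.fst d.h k₀) := sqP.isoIsPullback_hom_fst _ _ sq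
  have heq' : e.hom ≫ q = (yon S).map (pullback.snd d.h k₀) := sqP.isoIsPullback_hom_snd _ _ sq
  let m' := fpMap (F := FibCat.fpFst y f) (G := y') (F' := FibCat.fpFst y f) (G' := ys')
    (a := BasedFunctor.id _) (b := AlgSt.toOverCat V') (c := BasedFunctor.id _) (Iso.refl _) (Iso.refl _)
  have hm' : FibCat.IsEquivOver m' := fpMap_isEquivOver _ _ isEquivOver_id (isEquivOver_toOverCat V')
  let E : FibCat.overCat P ⥤ᵇ AlgSt.ofSp D.obj :=
    BasedFunctor.comp (AlgSt.ofOverCat P) (AlgSt.ofSpMap (F := (yon S).obj P) (G := D.obj) e.hom)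
  have hE : FibCat.IsEquivOver E := isEquivOver_comp (isEquivOver_ofOverCat P) (isEquivOver_ofSpMap e.hom)
  let cP : FibCat.overCat P ⥤ᵇ FibCat.fp (FibCat.fpFst y f) y' := BasedFunctor.comp E (BasedFunctor.comp c' m')
  have hcs : AlgSt.RepByAlgSpWith (LocP @Smooth) cs :=
    repByAlgSpWith_precomp (isEquivOver_toOverCat d.U) (repByAlgSpWith_postcomp hm d.hc)
  have hcs' : AlgSt.RepByAlgSpWith IsSurjectiveMor cs :=
    repByAlgSpWith_precomp (isEquivOver_toOverCat d.U) (repByAlgSpWith_postcomp hm d.hc')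
  let iSp {W : Over S} (r : D.obj ⟶ (yon S).obj W) (a : P ⟶ W) (hr : e.hom ≫ r = (yon S).map a) :
      BasedFunctor.comp E (BasedFunctor.comp (AlgSt.ofSpMap r) (AlgSt.toOverCat W)) ≅ AlgSt.overMap a :=
    whiskerLeftIso (AlgSt.ofOverCat P) (whiskerRightIso (isoOfSpMap
        (BasedFunctor.comp (AlgSt.ofSpMap (F := (yon S).obj P) e.hom) (AlgSt.ofSpMap r)) ≪≫
      eqToIso (congrArg (fun t => AlgSt.ofSpMap t)
        (show spHom (BasedFunctor.comp (AlgSt.ofSpMap (F := (yon S).obj P) e.hom) (AlgSt.ofSpMap r)) = (yon S).map a by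
          rw [spHom_comp, spHom_ofSpMap, spHom_ofSpMap, hr]))) (AlgSt.toOverCat W) ≪≫ (toOverCatMapIso a).symm) ≪≫
      whiskerRightIso (ofOverCatIso P) (AlgSt.overMap a)
  let i' : BasedFunctor.comp cP (FibCat.fpSnd (FibCat.fpFst y f) y') ≅ AlgSt.overMap (pullback.snd d.h k₀) :=
    whiskerLeftIso E (whiskerRightIso (isoOfSpMap (BasedFunctor.comp c' (FibCat.fpSnd (FibCat.fpFst y f) ys')) ≪≫
        eqToIso (congrArg (fun t => AlgSt.ofSpMap t) hq)) (AlgSt.toOverCat V')) ≪≫ iSp q _ heq'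
  refine ⟨⟨V', y', repByAlgSpWith_locP_comp (isFibGrpd_overCat V') hgy hc₂ (repByAlgSpWith_fpFst y d.hy),
    repByAlgSpWith_isSurjectiveMor_comp (isFibGrpd_overCat V') hgy hc₂' (repByAlgSpWith_fpFst y d.hy'),
    P, cP, repByAlgSpWith_precomp hE (repByAlgSpWith_postcomp hm' (hs hcs)),
    repByAlgSpWith_precomp hE (repByAlgSpWith_postcomp hm' (hs' hcs')), _, i'⟩, fun x => ?_⟩
  generalize hd' : SmData.mk _ _ _ _ _ _ _ _ _ i' = d'
  have hM := isAlgStack_fp h𝒴' h𝒳 h𝒴.isStack h𝒴.diag y f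
  have hsur : AlgSt.RepByAlgSpWith IsSurjectiveMor d'.x :=
    repByAlgSpWith_isSurjectiveMor_comp (isFibGrpd_overCat d'.U)
      (fp_isFibGrpd hM.isStack.1 (isFibGrpd_overCat d'.V) h𝒴'.isStack.1) d'.hc'
      (repByAlgSpWith_fpFst _ d'.hy')
  subst hd'
  obtain ⟨u', rfl⟩ := ofChart_surjective hM.isStack.1 hsur x
  have hsnd : AlgSt.Points.map (FibCat.fpSnd y f) (AlgSt.Points.ofChart
      (BasedFunctor.comp cP (FibCat.fpFst (FibCat.fpFst y f) y')) u') =
      AlgSt.Points.ofChart d.x ((pullback.fst d.h k₀).left u') := by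
    rw [← ofChart_overMap, ofChart_eq_map, ofChart_eq_map, ← pts_map_comp]
    exact pts_map_congr (whiskerLeftIso E jf ≪≫ whiskerRightIso (iSp p _ hep) d.x) _
  refine (SmData.preimage_T _ hM h𝒴' u').trans ?_
  have h3 := d.preimage_T h𝒳 h𝒴 ((pullback.fst d.h k₀).left u')
  rw [← hsnd] at h3
  refine Iff.trans ?_ h3.symm
  have hfl : Flat ((Over.forget S).map k₀) := hk₀
  have := preimage_smoothOpen ((IsPullback.of_hasPullback d.h k₀).map (Over.forget S)) hfp'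
  exact SetLike.ext_iff.1 this u'

end Groth.Agent.AlgStLib
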