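import Groth.Agent.AlgStLib.OpenSub
import Groth.Agent.AlgStLib.PtsInObj
import Groth.Agent.AlgStLib.LocQCalc
import Groth.Agent.AlgStLib.LocQDescent
import Groth.Agent.AlgStLib.Imm
import Groth.Agent.SrcDescent.LocalAtSource
import Groth.Agent.AlgSpLib.SmoothLocalInst
import Groth.Agent.AlgStLib.QuasiCompact

/-! # The smooth locus of a morphism of algebraic stacks -/

set_option autoImplicit false
set_option backward.isDefEq.respectTransparency false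
set_option backward.isDefEq.respectTransparency.types false

universe u

open CategoryTheory CategoryTheory.Functor CategoryTheory.Limits AlgebraicGeometry Opposite AlgSp
open Groth.Agent.FibBase Groth.Agent.AlgSpLib

namespace Groth.Agent.AlgStLib

/-- The largest open on which a morphism of schemes is smooth. -/
def smoothOpen {X Y : Scheme.{u}} (h : X ⟶ Y) : X.Opens := sSup {W | Smooth (W.ι ≫ h)}

theorem smooth_smoothOpen {X Y : Scheme.{u}} (h : X ⟶ Y) : Smooth ((smoothOpen h).ι ≫ h) := by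
  let I := {W : X.Opens // Smooth (W.ι ≫ h)}
  let Ω := smoothOpen h
  have hle : ∀ W : I, W.1 ≤ Ω := fun W => le_sSup W.2
  rw [IsZariskiLocalAtSource.iff_of_iSup_eq_top (P := @Smooth) (fun W : I => Ω.ι ⁻¹ᵁ W.1) ?_]
  · intro W
    let j : (Ω.ι ⁻¹ᵁ W.1).toScheme ⟶ W.1.toScheme := IsOpenImmersion.lift W.1.ι ((Ω.ι ⁻¹ᵁ W.1).ι ≫ Ω.ι) (by
      rw [Scheme.Opens.range_ι]
      rintro _ ⟨z, rfl⟩
      exact z.2)
    have hj : IsOpenImmersion j := by
      have : IsOpenImmersion (j ≫ W.1.ι) := by rw [IsOpenImmersion.lift_fac]; infer_instance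
      exact IsOpenImmersion.of_comp j W.1.ι
    have := W.2
    rw [← Category.assoc, ← IsOpenImmersion.lift_fac W.1.ι ((Ω.ι ⁻¹ᵁ W.1).ι ≫ Ω.ι) (by
      rw [Scheme.Opens.range_ι]
      rintro _ ⟨z, rfl⟩
      exact z.2), Category.assoc]
    exact inferInstanceAs (Smooth (j ≫ W.1.ι ≫ h))
  · refine TopologicalSpace.Opens.ext (Set.eq_univ_of_forall fun z => ?_)
    obtain ⟨W, hW, hz⟩ := TopologicalSpace.Opens.mem_sSup.1 z.2
    exact TopologicalSpace.Opens.mem_iSup.2 ⟨⟨W, hW⟩, hz⟩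

theorem mem_smoothOpen_of_precomp {W X Y : Scheme.{u}} (k : W ⟶ X) [Smooth k] (h : X ⟶ Y)
    (hk : Smooth (k ≫ h)) (w : W) : k w ∈ smoothOpen h := by
  let O : X.Opens := ⟨Set.range k, k.isOpenMap.isOpen_range⟩
  let k' : W ⟶ O.toScheme := IsOpenImmersion.lift O.ι k (by rw [Scheme.Opens.range_ι]; exact subset_rfl)
  have hk' : k' ≫ O.ι = k := IsOpenImmersion.lift_fac _ _ _
  have hs : Smooth k' :=
    MorphismProperty.of_postcomp (W := @Smooth) (W' := @IsOpenImmersion) k' O.ι inferInstance (by rwa [hk'])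
  have hsj : Surjective k' := ⟨fun z => by
    obtain ⟨v, hv⟩ : O.ι z ∈ Set.range k := z.2
    refine ⟨v, O.ι.injective ?_⟩
    rw [← Scheme.Hom.comp_apply, hk', hv]⟩
  have hO : Smooth (O.ι ≫ h) := Groth.Agent.SrcDescent.smooth_of_smooth_comp k' (O.ι ≫ h)
    (by rwa [← Category.assoc, hk'])
  exact TopologicalSpace.Opens.mem_sSup.2 ⟨O, hO, ⟨w, rfl⟩⟩

variable {S : Scheme.{u}} {𝒳 𝒴 : AlgSt.Cat S}

local notation "K₀" => Scheme.fppfPrecoverage

/-- A chart of a morphism on which the smooth locus is read. -/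
structure SmData (f : 𝒳 ⥤ᵇ 𝒴) where
  /-- the chart of the target -/
  V : Over S
  /-- the chart of the target -/
  y : FibCat.overCat V ⥤ᵇ 𝒴
  hy : AlgSt.RepByAlgSpWith (LocP @Smooth) y
  hy' : AlgSt.RepByAlgSpWith IsSurjectiveMor y
  /-- the chart of the source -/
  U : Over S
  /-- the chart of the base change -/
  c : FibCat.overCat U ⥤ᵇ FibCat.fp f y
  hc : AlgSt.RepByAlgSpWith (LocP @Smooth) c
  hc' : AlgSt.RepByAlgSpWith IsSurjectiveMor c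
  /-- the morphism of charts -/
  h : U ⟶ V
  /-- compatibility -/
  i : BasedFunctor.comp c (FibCat.fpSnd f y) ≅ AlgSt.overMap h

variable {f : 𝒳 ⥤ᵇ 𝒴}

theorem nonempty_smData (h𝒳 : AlgSt.IsAlgStack K₀ 𝒳) (h𝒴 : AlgSt.IsAlgStack K₀ 𝒴) (f : 𝒳 ⥤ᵇ 𝒴) :
    Nonempty (SmData f) := by
  obtain ⟨V, y, hy, hy'⟩ := id h𝒴.atlas
  obtain ⟨U, c, hc, hc'⟩ := exists_atlas_fp h𝒳 (isAlgStack_overCat V) h𝒴 f y
  obtain ⟨h, ⟨i⟩⟩ := exists_mapB (BasedFunctor.comp c (FibCat.fpSnd f y))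
  exact ⟨⟨V, y, hy, hy', U, c, hc, hc', h, i.symm⟩⟩

namespace SmData

variable (d : SmData f)

/-- The chart of the source. -/
def x : FibCat.overCat d.U ⥤ᵇ 𝒳 := BasedFunctor.comp d.c (FibCat.fpFst f d.y)

/-- The square. -/
def sq : BasedFunctor.comp d.x f ≅ BasedFunctor.comp (AlgSt.overMap d.h) d.y :=
  whiskerLeftIso d.c (FibCat.fpIso f d.y) ≪≫ whiskerRightIso d.i d.y

/-- The open of the chart on which it is smooth. -/
def Ω : d.U.left.Opens := smoothOpen d.h.left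

/-- The smooth locus. -/
def T : Set (AlgSt.Points 𝒳) := AlgSt.Points.ofChart d.x '' (d.Ω : Set ↥d.U.left)

theorem hx (h𝒳 : AlgSt.IsAlgStack K₀ 𝒳) (h𝒴 : AlgSt.IsAlgStack K₀ 𝒴) :
    AlgSt.RepByAlgSpWith (LocP @Smooth) d.x :=
  repByAlgSpWith_locP_comp (isFibGrpd_overCat d.U)
    (fp_isFibGrpd h𝒳.isStack.1 (isFibGrpd_overCat d.V) h𝒴.isStack.1) d.hc (repByAlgSpWith_fpFst f d.hy)

theorem isOpen_T (h𝒳 : AlgSt.IsAlgStack K₀ 𝒳) (h𝒴 : AlgSt.IsAlgStack K₀ 𝒴) : IsOpen d.T :=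
  isOpenMap_ofChart h𝒳.isStack.1 (repByAlgSpWith_flat_of_smooth (d.hx h𝒳 h𝒴))
    (repByAlgSpWith_lfp_of_smooth (d.hx h𝒳 h𝒴)) _ d.Ω.2

/-- A smooth map along which the morphism becomes smooth lands in the smooth locus:
each point of the chart over the image is in the smooth open. -/
theorem mem_Ω_of_pt (h𝒳 : AlgSt.IsAlgStack K₀ 𝒳) (h𝒴 : AlgSt.IsAlgStack K₀ 𝒴) {𝒵 : AlgSt.Cat S}
    (h𝒵 : AlgSt.IsAlgStack K₀ 𝒵) (g : 𝒵 ⥤ᵇ 𝒳) (hg : AlgSt.LocQ (LocP @Smooth) g)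
    (hgf : AlgSt.LocQ (LocP @Smooth) (BasedFunctor.comp g f)) (p : AlgSt.Points 𝒵) (u : ↥d.U.left)
    (hpu : AlgSt.Points.map g p = AlgSt.Points.ofChart d.x u) : u ∈ d.Ω := by
  have hP : IsSmoothLocalST (S := S) (LocP @Smooth) := isSmoothLocalST_smooth
  have hV := isAlgStack_overCat d.V
  have hXV := isAlgStack_fp h𝒳 hV h𝒴.isStack h𝒴.diag f d.y
  let π := FibCat.fpFst f d.y
  have hM := isAlgStack_fp h𝒵 hXV h𝒳.isStack h𝒳.diag g π
  obtain ⟨W, e, he, he'⟩ := (isAlgStack_fp hM (isAlgStack_overCat d.U) hXV.isStack hXV.diag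
    (FibCat.fpSnd g π) d.c).atlas
  let D := FibCat.fp (FibCat.fpSnd g π) d.c
  have hDg : FibCat.IsFibGrpd D.p :=
    fp_isFibGrpd hM.isStack.1 (isFibGrpd_overCat d.U) hXV.isStack.1
  let c'' := BasedFunctor.comp e (FibCat.fpFst (FibCat.fpSnd g π) d.c)
  have hc'' : AlgSt.RepByAlgSpWith (LocP @Smooth) c'' :=
    repByAlgSpWith_locP_comp (isFibGrpd_overCat W) hDg he (repByAlgSpWith_fpFst _ d.hc)
  have hc''s : AlgSt.RepByAlgSpWith IsSurjectiveMor c'' :=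
    repByAlgSpWith_isSurjectiveMor_comp (isFibGrpd_overCat W) hDg he' (repByAlgSpWith_fpFst _ d.hc')
  let z := BasedFunctor.comp c'' (FibCat.fpFst g π)
  have hz : AlgSt.RepByAlgSpWith IsSurjectiveMor z :=
    repByAlgSpWith_isSurjectiveMor_comp (isFibGrpd_overCat W) hM.isStack.1 hc''s
      (repByAlgSpWith_fpFst g (repByAlgSpWith_fpFst f d.hy'))
  obtain ⟨k, ⟨j⟩⟩ := exists_mapB (BasedFunctor.comp e (FibCat.fpSnd (FibCat.fpSnd g π) d.c))
  -- the map to the chart is smooth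
  have hks : Smooth k.left := by
    let e' : FibCat.overCat W ⥤ᵇ FibCat.fp g d.x := BasedFunctor.comp e (pasteHor g d.c π)
    exact locP_yon_map (P := @Smooth) ((locQS_of_locQ hP h𝒵.isStack.1 h𝒳.isStack.1 hg).scheme e'
      (d.hx h𝒳 h𝒴) (repByAlgSpWith_postcomp (pasteHor_isEquivOver g d.c π) he)
      (show BasedFunctor.comp e' (FibCat.fpSnd g d.x) ≅ AlgSt.overMap k from j.symm))
  -- the composite is smooth
  have hkh : Smooth (k ≫ d.h).left := by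
    let c' : FibCat.overCat W ⥤ᵇ FibCat.fp (BasedFunctor.comp g f) d.y :=
      BasedFunctor.comp c'' (pasteVert g f d.y)
    exact locP_yon_map (P := @Smooth)
      ((locQS_of_locQ hP h𝒵.isStack.1 h𝒴.isStack.1 hgf).scheme c' d.hy
        (repByAlgSpWith_postcomp (pasteVert_isEquivOver g f d.y) hc'')
        (show BasedFunctor.comp c' (FibCat.fpSnd (BasedFunctor.comp g f) d.y) ≅ AlgSt.overMap (k ≫ d.h) from
          whiskerRightIso (whiskerLeftIso e (FibCat.fpIso (FibCat.fpSnd g π) d.c)) (FibCat.fpSnd f d.y) ≪≫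
            whiskerLeftIso (BasedFunctor.comp e (FibCat.fpSnd (FibCat.fpSnd g π) d.c)) d.i ≪≫
              whiskerRightIso j.symm (AlgSt.overMap d.h) ≪≫ overMapCompIso k d.h))
  obtain ⟨q, hq, hq'⟩ := exists_pts_fp hXV.isStack.1 h𝒳.isStack.1 h𝒵.isStack.1 π g p
    (AlgSt.Points.map d.c (ptAt d.U u)) (by rw [hpu, ofChart_eq_map, ← pts_map_comp]; rfl)
  obtain ⟨r, hr, hr'⟩ := exists_pts_fp (isFibGrpd_overCat d.U) hXV.isStack.1 hM.isStack.1 d.c
    (FibCat.fpSnd g π) q (ptAt d.U u) hq'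
  obtain ⟨w, rfl⟩ := ofChart_surjective hDg he' r
  have hw : ptAt d.U u = ptAt d.U (k.left w) := by
    refine hr'.symm.trans ?_
    refine Eq.trans ?_ (map_overMap_ptAt k w)
    refine Eq.trans ?_ (pts_map_congr j _).symm
    exact (pts_map_comp e _ (ptAt W w)).symm
  rw [show u = k.left w from by simpa [toSch_ptAt] using congrArg (toSch d.U) hw]
  exact mem_smoothOpen_of_precomp k.left d.h.left hkh w

/-- A smooth map along which the morphism becomes smooth lands in the smooth locus. -/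
theorem range_subset (h𝒳 : AlgSt.IsAlgStack K₀ 𝒳) (h𝒴 : AlgSt.IsAlgStack K₀ 𝒴) {𝒵 : AlgSt.Cat S}
    (h𝒵 : AlgSt.IsAlgStack K₀ 𝒵) (g : 𝒵 ⥤ᵇ 𝒳) (hg : AlgSt.LocQ (LocP @Smooth) g)
    (hgf : AlgSt.LocQ (LocP @Smooth) (BasedFunctor.comp g f)) (p : AlgSt.Points 𝒵) :
    AlgSt.Points.map g p ∈ d.T := by
  have hs : AlgSt.RepByAlgSpWith IsSurjectiveMor d.x :=
    repByAlgSpWith_isSurjectiveMor_comp (isFibGrpd_overCat d.U)
      (fp_isFibGrpd h𝒳.isStack.1 (isFibGrpd_overCat d.V) h𝒴.isStack.1) d.hc' (repByAlgSpWith_fpFst f d.hy')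
  obtain ⟨u, hu⟩ := ofChart_surjective h𝒳.isStack.1 hs (AlgSt.Points.map g p)
  exact ⟨u, d.mem_Ω_of_pt h𝒳 h𝒴 h𝒵 g hg hgf p u hu.symm, hu⟩

/-- A smooth map into the smooth locus makes the morphism smooth. -/
theorem locQ_comp_of_range_subset (h𝒳 : AlgSt.IsAlgStack K₀ 𝒳) (h𝒴 : AlgSt.IsAlgStack K₀ 𝒴) {𝒵 : AlgSt.Cat S}
    (h𝒵 : AlgSt.IsAlgStack K₀ 𝒵) (g : 𝒵 ⥤ᵇ 𝒳) (hg : AlgSt.LocQ (LocP @Smooth) g)
    (hT : ∀ p, AlgSt.Points.map g p ∈ d.T) : AlgSt.LocQ (LocP @Smooth) (BasedFunctor.comp g f) := by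
  have hP : IsSmoothLocalST (S := S) (LocP @Smooth) := isSmoothLocalST_smooth
  let UΩ : Over S := Over.mk (d.Ω.ι ≫ d.U.hom)
  let ι : UΩ ⟶ d.U := Over.homMk d.Ω.ι rfl
  let xΩ := BasedFunctor.comp (AlgSt.overMap ι) d.x
  have hxΩ : AlgSt.RepByAlgSpWith (LocP @Smooth) xΩ :=
    repByAlgSpWith_locP_comp (isFibGrpd_overCat UΩ) (isFibGrpd_overCat d.U)
      (repByAlgSpWith_overMap stableBC_locP (locP_of_repWith ((repWith_yon_map_iff _ ι).2
        (inferInstanceAs (Smooth d.Ω.ι))))) (d.hx h𝒳 h𝒴)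
  have hD := isAlgStack_fp h𝒵 (isAlgStack_overCat UΩ) h𝒳.isStack h𝒳.diag g xΩ
  obtain ⟨W, e, he, he'⟩ := hD.atlas
  obtain ⟨k, ⟨j⟩⟩ := exists_mapB (BasedFunctor.comp e (FibCat.fpSnd g xΩ))
  have hks : Smooth k.left := locP_yon_map (P := @Smooth)
    ((locQS_of_locQ hP h𝒵.isStack.1 h𝒳.isStack.1 hg).scheme e hxΩ he j.symm)
  let z := BasedFunctor.comp e (FibCat.fpFst g xΩ)
  have hz : AlgSt.RepByAlgSpWith (LocP @Smooth) z :=
    repByAlgSpWith_locP_comp (isFibGrpd_overCat W) hD.isStack.1 he (repByAlgSpWith_fpFst g hxΩ)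
  have hz' : AlgSt.RepByAlgSpWith IsSurjectiveMor z := by
    refine repByAlgSpWith_surjective_of_isSurjective (isFibGrpd_overCat W) h𝒵.isStack.1
      (repByAlgSp1_of_repByAlgSpWith hz) fun p => ?_
    obtain ⟨u, hu, hup⟩ := hT p
    obtain ⟨q, hq, -⟩ := exists_pts_fp (isFibGrpd_overCat UΩ) h𝒳.isStack.1 h𝒵.isStack.1 xΩ g p
      (ptAt UΩ ⟨u, hu⟩) (by rw [← ofChart_eq_map, ofChart_overMap]; exact hup.symm)
    obtain ⟨w, rfl⟩ := isSurjective_ofChart_atlas hD.isStack.1 he' q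
    exact ⟨w, by rw [pts_map_comp]; exact hq⟩
  have hsm : Smooth (k ≫ ι ≫ d.h).left := by
    have := smooth_smoothOpen d.h.left
    exact inferInstanceAs (Smooth (k.left ≫ (smoothOpen d.h.left).ι ≫ d.h.left))
  exact ⟨W, d.V, z, d.y, k ≫ ι ≫ d.h,
    whiskerRightIso (whiskerLeftIso e (FibCat.fpIso g xΩ) ≪≫ whiskerRightIso j.symm xΩ) f ≪≫
      whiskerLeftIso (BasedFunctor.comp (AlgSt.overMap k) (AlgSt.overMap ι)) d.sq ≪≫
        whiskerRightIso (whiskerRightIso (overMapCompIso k ι) (AlgSt.overMap d.h) ≪≫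
          overMapCompIso (k ≫ ι) d.h) d.y ≪≫
          eqToIso (congrArg (fun m => BasedFunctor.comp (AlgSt.overMap m) d.y) (Category.assoc k ι d.h)),
    hz, hz', d.hy, locP_of_repWith ((repWith_yon_map_iff _ _).2 hsm)⟩

end SmData

/-- An open substack is smooth over the stack. -/
theorem locQ_smooth_subIncl (h𝒳 : AlgSt.IsAlgStack K₀ 𝒳) {Q : 𝒳.obj → Prop}
    (hQ : AlgSt.IsOpenSubstack 𝒳 Q K₀) : AlgSt.LocQ (LocP @Smooth) (AlgSt.subIncl 𝒳 Q) :=
  (locQ_iff_repByAlgSpWith isSmoothLocalST_smooth stableBC_locP (isLocalOnBase_fppf_locP _) hQ.2.1 h𝒳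
    (repByAlgSp1_of_repByAlgSpWith hQ.2.2)).2
    (repByAlgSpWith_mono (fun _ _ _ h => locP_of_repWith (repWith_mono (Q := @Smooth)
      (fun _ _ g (_ : IsOpenImmersion g) => inferInstanceAs (Smooth g)) _ h)) hQ.2.2)

end Groth.Agent.AlgStLib
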