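import Groth.Agent.IsoNatLib.TriRep
import Groth.Agent.AlgStLib.SpBGDiag
import Groth.Agent.AlgStLib.SepDiag
import Groth.Prelude.Def_StGerb2

/-!
# A scheme representing the automorphisms of a point is the space of automorphisms
-/

set_option autoImplicit false
set_option backward.isDefEq.respectTransparency false
set_option backward.isDefEq.respectTransparency.types false

universe u

open CategoryTheory CategoryTheory.Functor CategoryTheory.Limits AlgebraicGeometry Opposite AlgSp
  Groth.Agent.FibBase Groth.Agent.IsoNatLib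

namespace Groth.Agent.AlgStLib

variable {S : Scheme.{u}} {𝒳 : AlgSt.Cat S} {U : Over S} {x : FibCat.overCat U ⥤ᵇ 𝒳}
  {G : Over U.left} [GrpObj G]

/-- An automorphism over the identity as an automorphism of the restriction. -/
noncomputable def autAtOfAutO (T : Over U) (α : Gerb.AutO (x.obj T)) : AutAt x T :=
  fiberIsoMk (a := Groth.Agent.IsoNatLib.fib x T) (b := Groth.Agent.IsoNatLib.fib x T) (show x.obj T ≅ x.obj T from ofFiberIso (a := Gerb.fib (x.obj T)) (b := Gerb.fib (x.obj T)) α)
    (isHomLift_id_congr (x.w_obj T) α.hom.2)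

theorem autAtOfAutO_val (T : Over U) (α : Gerb.AutO (x.obj T)) : (autAtOfAutO T α).hom.1 = α.hom.1 := rfl

theorem autAtOfAutO_bijective (T : Over U) : Function.Bijective (autAtOfAutO (x := x) T) := by
  refine ⟨fun α β h => Iso.ext (Subtype.ext ?_), fun γ => ?_⟩
  · have := congrArg (fun i : AutAt x T => i.hom.1) h
    rwa [autAtOfAutO_val, autAtOfAutO_val] at this
  · exact ⟨fiberIsoMk (a := Gerb.fib (x.obj T)) (b := Gerb.fib (x.obj T)) (show x.obj T ≅ x.obj T from ofFiberIso (a := Groth.Agent.IsoNatLib.fib x T) (b := Groth.Agent.IsoNatLib.fib x T) γ)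
      (isHomLift_id_congr (x.w_obj T).symm γ.hom.2), Iso.ext (Subtype.ext rfl)⟩

/-- The scheme over the base underlying a scheme over a base change. -/
abbrev overBase (G : Over U.left) : Over S := Over.mk (G.hom ≫ U.hom)

/-- The structure morphism. -/
abbrev overBaseHom (G : Over U.left) : overBase G ⟶ U := Over.homMk G.hom rfl

/-- A group scheme with the automorphisms as points is the space of automorphisms. -/
theorem exists_iso_autRep [hf : FibCat.IsFibGrpd 𝒳.p] (r : Gerb.AutRep x (Gerb.ptsGrp U G))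
    (R : Groth.Agent.IsoNatLib.AutRep x) :
    ∃ e : (yon S).obj (overBase G) ≅ R.F.obj, e.hom ≫ R.a = (yon S).map (overBaseHom G) := by
  let T₀ : Over U := Over.mk (overBaseHom G)
  let a₀ : (Gerb.ptsGrp U G).obj (op T₀) :=
    (Over.homMk (𝟙 G.left) (Category.id_comp _) : (Over.iteratedSliceForward U).obj T₀ ⟶ G)
  let γ₀ : AutAt x T₀ := autAtOfAutO T₀ (r.iso T₀ a₀)
  let t₀ : Tri x x (overBase G) := Tri.ofAut γ₀
  let ψ : (yon S).obj (overBase G) ⟶ R.F.obj := R.pt t₀ rfl
  have key : ∀ {T : Over S} (φ : T ⟶ overBase G),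
      t₀.res φ = Tri.ofAut (autAtOfAutO _ (r.iso (Over.mk (φ ≫ overBaseHom G))
        ((Gerb.ptsGrp U G).map (Over.homMk φ rfl : Over.mk (φ ≫ overBaseHom G) ⟶ T₀).op a₀))) := by
    intro T φ
    rw [Tri.res_ofAut]
    congr 1
    refine res_eq _ ?_
    rw [autAtOfAutO_val, autAtOfAutO_val]
    exact r.natural _ a₀
  have hbij : ∀ (W : Over S) (q : (yon S).obj W ⟶ R.F.obj), ∃! p : (yon S).obj W ⟶ (yon S).obj (overBase G),
      p ≫ ψ = q := by
    intro W q
    obtain ⟨t, e, rfl⟩ := R.pt_surj q
    obtain ⟨γ, hγ⟩ := t.exists_ofAut e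
    obtain ⟨α, hα⟩ := (autAtOfAutO_bijective (x := x) (Over.mk t.h)).2 γ
    obtain ⟨a, ha⟩ := (r.iso (Over.mk t.h)).surjective α
    let f : (Over.iteratedSliceForward U).obj (Over.mk t.h) ⟶ G := a
    let φ : W ⟶ overBase G := Over.homMk f.left (by
      show f.left ≫ G.hom ≫ U.hom = W.hom
      rw [← Category.assoc, Over.w f]
      exact Over.w t.h)
    have hφ : φ ≫ overBaseHom G = t.h := by
      apply Over.OverMorphism.ext
      exact Over.w f
    have hres : t₀.res φ = t := by
      rw [key]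
      conv_rhs => rw [hγ, ← hα, ← ha]
      have : ∀ (h : W ⟶ U) (_ : φ ≫ overBaseHom G = h) (b : (Gerb.ptsGrp U G).obj (op (Over.mk h))),
          (b : (Over.iteratedSliceForward U).obj (Over.mk h) ⟶ G).left = φ.left →
          Tri.ofAut (autAtOfAutO _ (r.iso (Over.mk (φ ≫ overBaseHom G))
            ((Gerb.ptsGrp U G).map (Over.homMk φ rfl : Over.mk (φ ≫ overBaseHom G) ⟶ T₀).op a₀))) =
          Tri.ofAut (autAtOfAutO _ (r.iso (Over.mk h) b)) := by
        rintro h rfl b hb
        congr 3
        apply Over.OverMorphism.ext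
        exact (Category.comp_id _).trans hb.symm
      exact this t.h hφ a rfl
    refine ⟨(yon S).map φ, ?_, fun p hp => ?_⟩
    · show (yon S).map φ ≫ ψ = _
      rw [show (yon S).map φ ≫ ψ = R.pt (t₀.res φ) _ from (R.pt_res t₀ rfl φ).symm]
      congr 1
    · obtain ⟨φ', rfl⟩ := (yon S).map_surjective p
      rw [show (yon S).map φ' ≫ ψ = R.pt (t₀.res φ') _ from (R.pt_res t₀ rfl φ').symm] at hp
      have h' := R.pt_inj hp
      have hh : φ' ≫ overBaseHom G = φ ≫ overBaseHom G := (congrArg Tri.h h').trans hφ.symm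
      have h'' : t₀.res φ' = t₀.res φ := h'.trans hres.symm
      rw [key, key] at h''
      have : ∀ (h : W ⟶ U) (b : (Gerb.ptsGrp U G).obj (op (Over.mk h))) (h₂ : W ⟶ U)
          (b₂ : (Gerb.ptsGrp U G).obj (op (Over.mk h₂))),
          (Tri.ofAut (autAtOfAutO _ (r.iso (Over.mk h) b)) : Tri x x W) =
            Tri.ofAut (autAtOfAutO _ (r.iso (Over.mk h₂) b₂)) →
          (b : (Over.iteratedSliceForward U).obj (Over.mk h) ⟶ G).left =
            (b₂ : (Over.iteratedSliceForward U).obj (Over.mk h₂) ⟶ G).left := by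
        intro h b h₂ b₂ he
        obtain rfl : h = h₂ := congrArg Tri.h he
        have he' := eq_of_heq (Tri.mk.injEq _ _ _ _ _ _ |>.mp he).2.2
        rw [(r.iso _).injective ((autAtOfAutO_bijective _).1 he')]
      have e' := this _ _ _ _ h''
      congr 1
      apply Over.OverMorphism.ext
      exact ((Category.comp_id _).symm.trans e').trans (Category.comp_id _)
  have : IsIso ψ := SpQuot.isIso_of_bijective_points ψ hbij
  exact ⟨asIso ψ, R.pt_a t₀ rfl⟩

/-- Properties of the inertia pass to a scheme of automorphisms. -/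
theorem property_of_autRep [hf : FibCat.IsFibGrpd 𝒳.p] {P : MorphismProperty (Sp S)} [P.RespectsIso]
    (h : AlgSt.RepByAlgSpWith P (FibCat.diag (FibCat.toSelf 𝒳))) (r : Gerb.AutRep x (Gerb.ptsGrp U G)) :
    P ((yon S).map (overBaseHom G)) := by
  obtain ⟨R, hR⟩ := exists_autRep (v := x) (repByAlgSpWith_inertiaToBase _ h)
  obtain ⟨e, he⟩ := exists_iso_autRep r R
  rw [← he]
  exact (P.cancel_left_of_respectsIso e.hom R.a).2 hR

end Groth.Agent.AlgStLib
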