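import Groth.Agent.AlgSpDec.TrivFibres
import Groth.Agent.AlgStLib.StabScheme
import Groth.Agent.AlgStLib.DiagLFT

/-! # Stacks with trivial stabilizers at field points are fibred in setoids -/

set_option autoImplicit false
set_option backward.isDefEq.respectTransparency false
set_option backward.isDefEq.respectTransparency.types false

universe u

open CategoryTheory CategoryTheory.Functor CategoryTheory.Limits AlgebraicGeometry Opposite AlgSp
  Groth.Agent.FibBase Groth.Agent.IsoNatLib Groth.Agent.AlgSpLib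

namespace Groth.Agent.AlgStLib

variable {S : Scheme.{u}} {𝒳 : AlgSt.Cat S}

/-- The trivial triples are the points of the neutral section. -/
theorem subsingleton_autAt_of_forall_field [hf : FibCat.IsFibGrpd 𝒳.p] {U : Over S} {G : FibCat.overCat U ⥤ᵇ 𝒳}
    (R : Groth.Agent.IsoNatLib.AutRep G) (hR : LocP @LocallyOfFiniteType R.a)
    (h : ∀ (k : Type u) [Field k] [IsAlgClosed k] (sk : Spec (CommRingCat.of k) ⟶ S) (i : Over.mk sk ⟶ U) {T : Over S}
      (g : T ⟶ Over.mk sk), Subsingleton (AutAt G (Over.mk (g ≫ i))))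
    {T : Over S} (g : T ⟶ U) : Subsingleton (AutAt G (Over.mk g)) := by
  let e₀ : (yon S).obj U ⟶ R.F.obj := R.pt (Tri.one (v := G) (𝟙 U)) rfl
  have he₀ : e₀ ≫ R.a = 𝟙 _ := (R.pt_a _ _).trans ((yon S).map_id U)
  have hone : ∀ {T : Over S} (g : T ⟶ U), (yon S).map g ≫ e₀ = R.pt (Tri.one (v := G) g) rfl := by
    intro T g
    rw [← R.pt_res]
    congr 1
    rw [Tri.res_one, Category.comp_id]
  have key : ∀ (K : Type u) [Field K] [IsAlgClosed K] (str : Spec (CommRingCat.of K) ⟶ S) (k : Over.mk str ⟶ U),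
      Triv R.a e₀ k := by
    intro K _ _ str k T' f τ hτ
    obtain ⟨t, e, rfl⟩ := R.pt_surj τ
    have hh : t.h = f ≫ k := (yon S).map_injective ((R.pt_a t e).symm.trans hτ)
    rw [hone]
    congr 1
    obtain ⟨γ, hγ⟩ := t.exists_ofAut e
    have hsub : Subsingleton (AutAt G (Over.mk t.h)) := by rw [hh]; exact h K str k f
    rw [hγ, ← hh, Subsingleton.elim γ (Iso.refl _)]
    rfl
  refine ⟨fun γ δ => ?_⟩
  have hγ : ∀ γ : AutAt G (Over.mk g), Tri.ofAut γ = Tri.one (v := G) g := fun γ => by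
    refine R.pt_inj (e := rfl) (e' := rfl) ?_
    rw [← hone]
    exact (Groth.Agent.AlgSpDec.triv_of_triv_fields R.F.property hR he₀ key g (𝟙 T) _
      (by rw [Category.id_comp]; exact R.pt_a _ _)).trans (by rw [Category.id_comp])
  have := (hγ γ).trans (hγ δ).symm
  exact eq_of_heq (Tri.mk.injEq _ _ _ _ _ _ |>.mp this).2.2

/-- An algebraic stack with trivial stabilizers at geometric points is fibred in setoids. -/
theorem isFibSetoid_of_forall_geom_autO (hg : FibCat.IsFibGrpd 𝒳.p)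
    (hΔ : AlgSt.RepByAlgSpWith (LocP @LocallyOfFiniteType) (FibCat.diag (FibCat.toSelf 𝒳)))
    (h : ∀ (k : Type u) [Field k] [IsAlgClosed k] (sk : Spec (CommRingCat.of k) ⟶ S)
        (x : FibCat.overCat (Over.mk sk) ⥤ᵇ 𝒳) (T : Over (Over.mk sk)),
        Subsingleton (Gerb.AutO (x.obj T))) : FibCat.IsFibSetoid 𝒳.p := by
  refine ⟨hg, fun U a b => ⟨fun φ ψ => ?_⟩⟩
  have := fiber_isGroupoid hg U
  suffices H : ∀ (c : 𝒳.p.Fiber U) (χ : c ⟶ c), χ = 𝟙 c by
    calc φ = (φ ≫ inv ψ) ≫ ψ := by simp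
      _ = ψ := by rw [H a (φ ≫ inv ψ), Category.id_comp]
  intro c χ
  obtain ⟨G, e, he⟩ := exists_overCat_obj hg c.1 c.2
  haveI := hg
  obtain ⟨R, hR⟩ := exists_autRep (v := G) (repByAlgSpWith_inertiaToBase _ hΔ)
  have hs : Subsingleton (AutAt G (Over.mk (𝟙 U))) := by
    refine subsingleton_autAt_of_forall_field R hR (fun k _ _ sk i T g => ?_) (𝟙 U)
    have hx := h k sk (BasedFunctor.comp (AlgSt.overMap i) G) (Over.mk g)
    have : Subsingleton (Gerb.AutO (G.obj (Over.mk (g ≫ i)))) := hx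
    exact (autAtOfAutO_bijective (x := G) (Over.mk (g ≫ i))).2.subsingleton
  let ec : fib G (Over.mk (𝟙 U)) ≅ c := fiberIsoMk (a := fib G (Over.mk (𝟙 U))) (b := c) e he
  have : IsIso χ := fiber_isIso χ
  let γ : AutAt G (Over.mk (𝟙 U)) := ec ≪≫ asIso χ ≪≫ ec.symm
  have hγ : γ.hom = 𝟙 _ := congrArg Iso.hom (Subsingleton.elim γ (Iso.refl _))
  calc χ = ec.inv ≫ γ.hom ≫ ec.hom := by simp [γ]
    _ = 𝟙 c := by rw [hγ]; simp

/-- An algebraic stack with trivial stabilizers at field points is fibred in setoids. -/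
theorem isFibSetoid_of_forall_field_autO (hg : FibCat.IsFibGrpd 𝒳.p)
    (hΔ : AlgSt.RepByAlgSpWith (LocP @LocallyOfFiniteType) (FibCat.diag (FibCat.toSelf 𝒳)))
    (h : ∀ (k : Type u) [Field k] (sk : Spec (CommRingCat.of k) ⟶ S)
        (x : FibCat.overCat (Over.mk sk) ⥤ᵇ 𝒳) (T : Over (Over.mk sk)),
        Subsingleton (Gerb.AutO (x.obj T))) : FibCat.IsFibSetoid 𝒳.p :=
  isFibSetoid_of_forall_geom_autO hg hΔ fun k _ _ => h k

/-- An automorphism of an object with unramified automorphism space which is trivial at all geometric points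
is trivial. -/
theorem autAt_eq_refl_of_geom [hf : FibCat.IsFibGrpd 𝒳.p] {U : Over S} {G : FibCat.overCat U ⥤ᵇ 𝒳}
    (R : Groth.Agent.IsoNatLib.AutRep G) (hR : LocP (@LocallyOfFiniteType ⊓ @FormallyUnramified) R.a)
    (γ : AutAt G (Over.mk (𝟙 U)))
    (h : ∀ (K : Type u) [Field K] [IsAlgClosed K] (str : Spec (CommRingCat.of K) ⟶ S) (k : Over.mk str ⟶ U),
      Groth.Agent.IsoNatLib.res (ovHom k (𝟙 U)) γ = Iso.refl _) : γ = Iso.refl _ := by
  let τ : (yon S).obj U ⟶ R.F.obj := R.pt (Tri.ofAut γ) rfl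
  let σ : (yon S).obj U ⟶ R.F.obj := R.pt (Tri.one (v := G) (𝟙 U)) rfl
  have hτσ : τ = σ := by
    refine Groth.Agent.AlgSpDec.eq_of_eq_geom R.F.property hR ((R.pt_a _ _).trans (R.pt_a (Tri.one (v := G) (𝟙 U)) rfl).symm) ?_
    intro K _ _ str k
    rw [← R.pt_res, ← R.pt_res]
    congr 1
    rw [Tri.res_ofAut, Tri.res_one, h K str k]
    rfl
  exact eq_of_heq (Tri.mk.injEq _ _ _ _ _ _ |>.mp (R.pt_inj hτσ)).2.2

/-- An automorphism of an object with unramified separated automorphism space which is trivial at field points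
lying densely is trivial. -/
theorem autAt_eq_refl_of_dense [hf : FibCat.IsFibGrpd 𝒳.p] {U : Over S} {G : FibCat.overCat U ⥤ᵇ 𝒳}
    (R : Groth.Agent.IsoNatLib.AutRep G) (hR : LocP (@LocallyOfFiniteType ⊓ @FormallyUnramified) R.a)
    (hs : IsSeparatedMor R.a) (γ : AutAt G (Over.mk (𝟙 U))) {D : Set ↥U.left} (hD : Dense D)
    (h : ∀ u ∈ D, ∃ (K : Type u) (_ : Field K) (str : Spec (CommRingCat.of K) ⟶ S) (k : Over.mk str ⟶ U),
      k.left (IsLocalRing.closedPoint K) = u ∧ Groth.Agent.IsoNatLib.res (ovHom k (𝟙 U)) γ = Iso.refl _) :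
    γ = Iso.refl _ := by
  let τ : (yon S).obj U ⟶ R.F.obj := R.pt (Tri.ofAut γ) rfl
  let σ : (yon S).obj U ⟶ R.F.obj := R.pt (Tri.one (v := G) (𝟙 U)) rfl
  have hτσ : τ = σ := by
    refine Groth.Agent.AlgSpDec.eq_of_eq_dense R.F.property hR hs
      ((R.pt_a _ _).trans (R.pt_a (Tri.one (v := G) (𝟙 U)) rfl).symm) hD fun u hu => ?_
    obtain ⟨K, iK, str, k, hku, hk⟩ := h u hu
    refine ⟨K, iK, str, k, hku, ?_⟩
    rw [← R.pt_res, ← R.pt_res]
    congr 1
    rw [Tri.res_ofAut, Tri.res_one, hk]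
    rfl
  exact eq_of_heq (Tri.mk.injEq _ _ _ _ _ _ |>.mp (R.pt_inj hτσ)).2.2

end Groth.Agent.AlgStLib
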