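import Groth.Agent.AlgStLib.LocQCalc
import Groth.Agent.AlgStLib.LocQInst
import Groth.Agent.AlgStLib.QuasiCompact
import Groth.Agent.AlgStLib.Diag
import Groth.Agent.AlgSpVal.FlatLift
import Groth.Agent.AlgSpVal.DvrThrough

/-!
# Valuation rings through points of stacks
-/

set_option autoImplicit false
set_option backward.isDefEq.respectTransparency false
set_option backward.isDefEq.respectTransparency.types false

universe u

open CategoryTheory CategoryTheory.Functor CategoryTheory.Limits AlgebraicGeometry Opposite AlgSp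

namespace Groth.Agent.AlgStLib

open Groth.Agent.FibBase Groth.Agent.AlgSpLib

variable {S : Scheme.{u}} {𝒳 𝒴 : AlgSt.Cat S}

local notation "K₀" => Scheme.fppfPrecoverage

theorem eq_of_ptAt {U : Over S} {s t : ↥U.left} (h : ptAt U s = ptAt U t) : s = t := by
  simpa [toSch_ptAt] using congrArg (toSch U) h

theorem exists_valuationRing_lift_flat (h𝒳 : AlgSt.IsAlgStack K₀ 𝒳) (h𝒴 : AlgSt.IsAlgStack K₀ 𝒴)
    (f : 𝒳 ⥤ᵇ 𝒴) (hf : AlgSt.LocQ (LocP @Flat) f)
    (A : Type u) [CommRing A] [IsDomain A] [ValuationRing A] (sA : Spec (CommRingCat.of A) ⟶ S)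
    (a : FibCat.overCat (Over.mk sA) ⥤ᵇ 𝒴)
    (ha : AlgSt.Points.ofChart a (IsLocalRing.closedPoint A) ∈ Set.range (AlgSt.Points.map f)) :
    ∃ (A' : Type u) (_ : CommRing A') (_ : IsDomain A') (_ : ValuationRing A') (φ : A →+* A'),
      Function.Injective φ ∧ IsLocalHom φ ∧
      ∃ x : FibCat.overCat (Over.mk (Spec.map (CommRingCat.ofHom φ) ≫ sA)) ⥤ᵇ 𝒳,
        Nonempty (BasedFunctor.comp x f ≅
          BasedFunctor.comp (AlgSt.overMap (Over.homMk (Spec.map (CommRingCat.ofHom φ)) rfl :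
            Over.mk (Spec.map (CommRingCat.ofHom φ) ≫ sA) ⟶ Over.mk sA)) a) := by
  let T : Over S := Over.mk sA
  have hT := isAlgStack_overCat T
  have hM := isAlgStack_fp hT h𝒳 h𝒴.isStack h𝒴.diag a f
  have hfst : AlgSt.LocQ (LocP @Flat) (FibCat.fpFst a f) :=
    locQ_fpFst isSmoothLocalST_flat stableBC_locP h𝒳 h𝒴 hT a hf
  obtain ⟨x₀, hx₀⟩ := ha
  rw [ofChart_eq_map] at hx₀
  obtain ⟨m, hm, -⟩ := exists_pts_fp h𝒳.isStack.1 h𝒴.isStack.1 hT.isStack.1 f a
    (ptAt T (IsLocalRing.closedPoint A)) x₀ hx₀.symm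
  obtain ⟨U, c, hc, hc'⟩ := id hM.atlas
  obtain ⟨u, rfl⟩ := ofChart_surjective hM.isStack.1 hc' m
  obtain ⟨k, ⟨j⟩⟩ := exists_mapB (BasedFunctor.comp c (FibCat.fpFst a f))
  obtain ⟨g, hg, ⟨jg⟩, -⟩ := isEquivOver_inv (fpFst_id_isEquivOver (FibCat.fpFst a f))
  have hk : Flat k.left := by
    let g' : FibCat.fp a f ⥤ᵇ FibCat.fp (FibCat.fpFst a f) (BasedFunctor.id (FibCat.overCat T)) :=
      FibCat.fpLift (BasedFunctor.id _) (FibCat.fpFst a f) (Iso.refl _)
    have hg' : FibCat.IsEquivOver g' :=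
      isEquivOver_of_comp_right (fpFst_id_isEquivOver (FibCat.fpFst a f))
        (isEquivOver_of_iso (Iso.refl _) isEquivOver_id)
    exact locP_yon_map (P := @Flat) ((locQS_of_locQ isSmoothLocalST_flat hM.isStack.1 hT.isStack.1 hfst).scheme
      (y := BasedFunctor.id _) (BasedFunctor.comp c g')
      (repByAlgSpWith_smooth_of_isEquivOver isEquivOver_id) (repByAlgSpWith_postcomp hg' hc)
      (show BasedFunctor.comp (BasedFunctor.comp c g') (FibCat.fpSnd (FibCat.fpFst a f) (BasedFunctor.id _)) ≅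
        AlgSt.overMap k from j.symm))
  have hku : k.left u = (IsLocalRing.closedPoint A : ↥T.left) := by
    refine eq_of_ptAt ?_
    exact ((map_overMap_ptAt k u).symm.trans ((pts_map_congr j _).trans (pts_map_comp c _ _))).trans hm
  obtain ⟨A', _, _, _, φ, hinj, hloc, l, hl⟩ := Groth.Agent.AlgSpVal.exists_lift_of_flat (IsAlgSpace.yon_obj U)
    (IsAlgSpace.yon_obj T) (f := (yon S).map k)
    (locP_of_repWith ((repWith_yon_map_iff _ k).2 hk)) A sA (𝟙 _)
    ⟨AlgSp.Points.ofScheme U u, by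
      rw [← AlgSp.Points.ofPt_eq_map_ofScheme, ← Category.comp_id ((yon S).map k)]
      exact (AlgSpLib.ofPt_comp k (𝟙 _) u).trans (congrArg (AlgSp.Points.ofPt (𝟙 ((yon S).obj T))) hku)⟩
  obtain ⟨l₀, rfl⟩ := (yon S).map_surjective l
  rw [Category.comp_id, ← Functor.map_comp] at hl
  have hl' := (yon S).map_injective hl
  refine ⟨A', inferInstance, inferInstance, inferInstance, φ, hinj, hloc,
    BasedFunctor.comp (AlgSt.overMap l₀) (BasedFunctor.comp c (FibCat.fpSnd a f)), ⟨?_⟩⟩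
  exact whiskerLeftIso (BasedFunctor.comp (AlgSt.overMap l₀) c) (FibCat.fpIso a f).symm ≪≫
    whiskerRightIso (whiskerLeftIso (AlgSt.overMap l₀) j.symm ≪≫ overMapCompIso l₀ k ≪≫
      eqToIso (congrArg (fun t => AlgSt.overMap t) hl')) a

theorem exists_valuationRing_witness (h𝒳 : AlgSt.IsAlgStack K₀ 𝒳) (h𝒴 : AlgSt.IsAlgStack K₀ 𝒴) (f : 𝒳 ⥤ᵇ 𝒴)
    (hf : AlgSt.IsQuasiCompactMor K₀ f) (y : AlgSt.Points 𝒴) (hy : y ∈ closure (Set.range (AlgSt.Points.map f))) :
    ∃ (A : Type u) (_ : CommRing A) (_ : IsDomain A) (_ : ValuationRing A) (sA : Spec (CommRingCat.of A) ⟶ S)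
      (a : FibCat.overCat (Over.mk sA) ⥤ᵇ 𝒴)
      (x : FibCat.overCat (Over.mk (Spec.map (CommRingCat.ofHom (algebraMap A (FractionRing A))) ≫ sA)) ⥤ᵇ 𝒳),
      Nonempty (BasedFunctor.comp x f ≅
        BasedFunctor.comp (AlgSt.overMap (Over.homMk (Spec.map (CommRingCat.ofHom (algebraMap A (FractionRing A)))) rfl :
          Over.mk (Spec.map (CommRingCat.ofHom (algebraMap A (FractionRing A))) ≫ sA) ⟶ Over.mk sA)) a) ∧
      AlgSt.Points.ofChart a (IsLocalRing.closedPoint A) = y := by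
  obtain ⟨V₀, y₀, hy₀, hy₀'⟩ := id h𝒴.atlas
  obtain ⟨v₀, hv₀⟩ := ofChart_surjective h𝒴.isStack.1 hy₀' y
  obtain ⟨O, hO, hvO, -⟩ := exists_isAffineOpen_mem_and_subset (U := (⊤ : V₀.left.Opens)) (x := v₀) trivial
  let V : Over S := Over.mk (O.ι ≫ V₀.hom)
  let ι : V ⟶ V₀ := Over.homMk O.ι rfl
  let b := BasedFunctor.comp (AlgSt.overMap ι) y₀
  have hb : AlgSt.RepByAlgSpWith (LocP @Smooth) b :=
    repByAlgSpWith_locP_comp (isFibGrpd_overCat V) (isFibGrpd_overCat V₀)
      (repByAlgSpWith_overMap stableBC_locP (locP_of_repWith ((repWith_yon_map_iff _ ι).2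
        (inferInstanceAs (Smooth O.ι))))) hy₀
  let v : ↥V.left := ⟨v₀, hvO⟩
  have hv : AlgSt.Points.ofChart b v = y := by
    rw [ofChart_overMap]
    exact hv₀
  have : IsAffine V.left := hO
  have hV := isAlgStack_overCat V
  have hM := isAlgStack_fp hV h𝒳 h𝒴.isStack h𝒴.diag b f
  obtain ⟨U, c, hU, hc, hc'⟩ := hf (FibCat.overCat V) hV (isQuasiCompact_overCat V) b
  have := hU
  obtain ⟨g, ⟨j⟩⟩ := exists_mapB (BasedFunctor.comp c (FibCat.fpFst b f))
  have hcl : v ∈ closure (Set.range g.left) := by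
    rw [mem_closure_iff]
    intro W hW hvW
    obtain ⟨-, ⟨w, hw, rfl⟩, x, hx⟩ := mem_closure_iff.1 hy _
      (isOpenMap_ofChart h𝒴.isStack.1 (repByAlgSpWith_flat_of_smooth hb) (repByAlgSpWith_lfp_of_smooth hb) W hW)
      ⟨v, hvW, hv⟩
    rw [ofChart_eq_map] at hx
    obtain ⟨m, hm, -⟩ := exists_pts_fp h𝒳.isStack.1 h𝒴.isStack.1 hV.isStack.1 f b (ptAt V w) x hx.symm
    obtain ⟨u, rfl⟩ := ofChart_surjective hM.isStack.1 hc' m
    refine ⟨w, hw, u, eq_of_ptAt ?_⟩
    exact ((map_overMap_ptAt g u).symm.trans ((pts_map_congr j _).trans (pts_map_comp c _ _))).trans hm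
  obtain ⟨u, hu⟩ := Groth.Agent.AlgSpVal.exists_specializes_of_mem_closure_range g.left hcl
  let K := U.left.residueField u
  obtain ⟨A, i, hi, hik⟩ := Groth.Agent.AlgSpVal.exists_valuationRing_through (K := K)
    (U.left.fromSpecResidueField u ≫ g.left) v
    ((congrArg (· ⤳ v) ((Scheme.Hom.comp_apply _ _ _).trans
      (congrArg g.left (U.left.fromSpecResidueField_apply u _)))).mpr hu)
  let σ : K →+* FractionRing A := (FractionRing.algEquiv A K).symm.toRingEquiv.toRingHom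
  have e : σ.comp (algebraMap A K) = algebraMap A (FractionRing A) :=
    RingHom.ext fun r => (FractionRing.algEquiv A K).symm.commutes r
  let sA : Spec (CommRingCat.of A) ⟶ S := i ≫ V.hom
  let iV : Over.mk sA ⟶ V := Over.homMk i rfl
  let η : Spec (CommRingCat.of (FractionRing A)) ⟶ Spec (CommRingCat.of A) :=
    Spec.map (CommRingCat.ofHom (algebraMap A (FractionRing A)))
  have hη : (Spec.map (CommRingCat.ofHom σ) ≫ U.left.fromSpecResidueField u) ≫ g.left = η ≫ i := by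
    rw [Category.assoc, ← hik, ← Category.assoc, ← Spec.map_comp, ← CommRingCat.ofHom_comp]
    exact congrArg (fun r => Spec.map (CommRingCat.ofHom r) ≫ i) e
  let kU : Over.mk (η ≫ sA) ⟶ U := Over.homMk (Spec.map (CommRingCat.ofHom σ) ≫ U.left.fromSpecResidueField u) (by
    show _ ≫ U.hom = η ≫ i ≫ V.hom
    rw [← Over.w g, ← Category.assoc, hη, Category.assoc])
  refine ⟨A, inferInstance, inferInstance, inferInstance, sA, BasedFunctor.comp (AlgSt.overMap iV) b,
    BasedFunctor.comp (AlgSt.overMap kU) (BasedFunctor.comp c (FibCat.fpSnd b f)), ⟨?_⟩, ?_⟩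
  · exact whiskerLeftIso (BasedFunctor.comp (AlgSt.overMap kU) c) (FibCat.fpIso b f).symm ≪≫
      whiskerRightIso (whiskerLeftIso (AlgSt.overMap kU) j.symm ≪≫ overMapCompIso kU g ≪≫
        eqToIso (congrArg (fun t => AlgSt.overMap t)
          (show kU ≫ g = (Over.homMk η rfl : Over.mk (η ≫ sA) ⟶ Over.mk sA) ≫ iV from Over.OverMorphism.ext hη)) ≪≫
        (overMapCompIso _ iV).symm) b
  · rw [ofChart_overMap, ← hv]
    exact congrArg _ hi

end Groth.Agent.AlgStLib
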