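import Groth.Agent.AlgStLib.DiagLFT
import Groth.Agent.AlgStLib.Charts
import Groth.Agent.AlgStLib.RatPoint
import Groth.Agent.AlgSpDec.FiniteCrit
import Groth.Prelude.Def_W4stkstmodspWNA

/-! # Well-nigh affine stacks are quasi-compact, quasi-DM and separated -/

set_option autoImplicit false
set_option backward.isDefEq.respectTransparency false
set_option backward.isDefEq.respectTransparency.types false

universe u

open CategoryTheory CategoryTheory.Functor CategoryTheory.Limits AlgebraicGeometry Opposite AlgSp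

namespace Groth.Agent.AlgStLib

open Groth.Agent.FibBase Groth.Agent.AlgSpLib

variable {S : Scheme.{u}} {𝒳 : AlgSt.Cat S}

/-- An affine scheme over the base is separated over it. -/
theorem repByAlgSpWith_separated_toSelf_overCat (U : Over S) [IsAffine U.left] :
    AlgSt.RepByAlgSpWith (IsSeparatedMor (S := S)) (FibCat.toSelf (FibCat.overCat U : AlgSt.Cat S)) := fun T y => by
  have hy : y = FibCat.toSelf (FibCat.overCat T) := by
    obtain ⟨F, w⟩ := y
    simp only [FibCat.toSelf, BasedFunctor.mk.injEq]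
    exact (Functor.comp_id F).symm.trans w
  subst hy
  refine ⟨⟨(yon S).obj (T ⨯ U), IsAlgSpace.yon_obj _⟩,
    BasedFunctor.comp (AlgSt.toOverCat (T ⨯ U)) (sliceProd T U),
    isEquivOver_comp (isEquivOver_toOverCat _) (sliceProd_isEquivOver T U), ?_⟩
  have h1 : AlgSt.spMapOfOver (BasedFunctor.comp (BasedFunctor.comp (AlgSt.toOverCat (T ⨯ U)) (sliceProd T U))
      (FibCat.fpFst (FibCat.toSelf (FibCat.overCat T : AlgSt.Cat S)) (FibCat.toSelf (FibCat.overCat U : AlgSt.Cat S)))) =
      (yon S).map (prod.fst : T ⨯ U ⟶ T) := by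
    apply ObjectProperty.hom_ext
    ext W x
    refine ULift.ext _ _ ?_
    show eqToHom _ ≫ (x.down ≫ prod.fst) = x.down ≫ prod.fst
    rw [eqToHom_refl, Category.id_comp]
  rw [h1]
  have : IsSeparated U.hom := IsSeparated.of_comp U.hom (terminal.from S)
  have hs : IsSeparated (prod.fst : T ⨯ U ⟶ T).left :=
    MorphismProperty.of_isPullback (P := @IsSeparated)
      ((IsPullback.of_is_product' (prodIsProd T U) Over.mkIdTerminal).map (Over.forget S)).flip
      (show IsSeparated (Over.mkIdTerminal.from U).left by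
        rw [show (Over.mkIdTerminal.from U).left = U.hom from (Category.comp_id _).symm.trans (Over.w _)]
        infer_instance)
  exact (isSeparatedMor_yon_map_iff _).2 hs

/-- A well-nigh affine stack is quasi-compact, quasi-DM and separated. -/
theorem wellNighAffine_props (h𝒳 : AlgSt.IsAlgStack Scheme.fppfPrecoverage 𝒳) (hw : AlgSt.IsWellNighAffine 𝒳) :
    AlgSt.IsQuasiCompact 𝒳 ∧ AlgSt.IsQuasiDMOver 𝒳 ∧ AlgSt.IsSeparatedOver 𝒳 := by
  obtain ⟨U, p, hU, hp⟩ := hw
  have hp' : AlgSt.RepByAlgSpWith IsSurjectiveMor p := repByAlgSpWith_mono (fun _ _ _ h => h.1.1.1) hp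
  have hfin : AlgSt.RepByAlgSpWith IsFiniteMor p := repByAlgSpWith_mono (fun _ _ _ h => h.1.2) hp
  have hes : LocEssSurj p := locEssSurj_of_repByAlgSp
    (repByAlgSpWith_mono (fun _ _ _ h => h.1.1.2) hp) (repByAlgSpWith_mono (fun _ _ _ h => h.2) hp) hp'
  refine ⟨?_, ?_⟩
  · have : IsAffine U.left := hU
    refine (isQuasiCompact_iff_compactSpace_points h𝒳.isStack.1 h𝒳.atlas).2 ⟨?_⟩
    rw [← (ofChart_surjective h𝒳.isStack.1 hp').range_eq]
    exact isCompact_range (continuous_ofChart h𝒳.isStack.1 h𝒳.atlas p)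
  let t := FibCat.toSelf 𝒳
  have : IsAffine U.left := hU
  have hsep : AlgSt.RepByAlgSpWith IsSeparatedMor
      (FibCat.fpFst (BasedFunctor.comp p t) (BasedFunctor.comp p t)) :=
    repByAlgSpWith_fpFst _ (by rw [comp_toSelf p]; exact repByAlgSpWith_separated_toSelf_overCat U)
  have hfst : AlgSt.RepByAlgSp1 (FibCat.fpFst (BasedFunctor.comp p t) (BasedFunctor.comp p t)) :=
    repByAlgSp1_of_repByAlgSpWith hsep
  have hprop : AlgSt.RepByAlgSpWith IsProperMor p := fun T y => by
    obtain ⟨F, e, he, h⟩ := hfin T y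
    exact ⟨F, e, he, (Groth.Agent.AlgSpDec.proper_and_lqf_of_finite (IsAlgSpace.yon_obj T) h).1⟩
  have hlqf : AlgSt.RepByAlgSpWith (lqf (S := S)) p := fun T y => by
    obtain ⟨F, e, he, h⟩ := hfin T y
    exact ⟨F, e, he, (Groth.Agent.AlgSpDec.proper_and_lqf_of_finite (IsAlgSpace.yon_obj T) h).2⟩
  have hweak : AlgSt.RepByAlgSpWith IsProperMor (weaken p p t) :=
    repByAlgSpWith_of_comp stableBC_isProperMor cancels_isProperMor hsep (repByAlgSpWith_fpFst p hprop)
  have hweak' : AlgSt.RepByAlgSpWith (lqf (S := S)) (weaken p p t) :=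
    repByAlgSpWith_of_comp stableBC_locP cancels_lqf (repByAlgSp1_iff_top.1 hfst) (repByAlgSpWith_fpFst p hlqf)
  refine ⟨?_, ?_⟩
  · exact repByAlgSpWith_of_locEssSurj stableBC_locP isLocalOnBase_lqf h𝒳.diag (locEssSurj_pairMap t hes hes)
      ((repByAlgSpWith_iff_of_square (f' := weaken p p t) (f := FibCat.fpFst (pairMap p p t) (FibCat.diag t))
        (a := diagComparison p p t) (b := BasedFunctor.id _) (diagComparison_isEquivOver p p t) isEquivOver_id
        (Iso.refl _)).2 hweak')
  · exact repByAlgSpWith_of_locEssSurj stableBC_isProperMor isLocalOnBase_isProperMor h𝒳.diag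
      (locEssSurj_pairMap t hes hes)
      ((repByAlgSpWith_iff_of_square (f' := weaken p p t) (f := FibCat.fpFst (pairMap p p t) (FibCat.diag t))
        (a := diagComparison p p t) (b := BasedFunctor.id _) (diagComparison_isEquivOver p p t) isEquivOver_id
        (Iso.refl _)).2 hweak)

end Groth.Agent.AlgStLib
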