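import Groth.Agent.AlgStLib.Stack
import Groth.Agent.AlgStLib.OverSpace
import Groth.Agent.AlgStLib.SpProps
import Groth.Agent.AlgSpDec.AffineFlfQuot
import Groth.Agent.AlgSpDec.AffineRep
import Groth.Agent.AlgSpLib.AffineDescProps
import Groth.Prelude.Def_W4stkstmodspWNA

/-! # A well-nigh affine space is affine -/

set_option autoImplicit false
set_option backward.isDefEq.respectTransparency false
set_option backward.isDefEq.respectTransparency.types false

universe u

open CategoryTheory CategoryTheory.Limits AlgebraicGeometry Opposite AlgSp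

namespace Groth.Agent.AlgStLib

open Groth.Agent.FibBase Groth.Agent.AlgSpLib

variable {S : Scheme.{u}} {𝒳 : AlgSt.Cat S}

theorem exists_affine_of_wellNighAffine (hw : AlgSt.IsWellNighAffine 𝒳) (hsp : AlgSt.RepByAlgSp 𝒳) :
    ∃ (U : Over S) (e : AlgSt.ofSch U ⥤ᵇ 𝒳), IsAffine U.left ∧ FibCat.IsEquivOver e := by
  obtain ⟨U, x, hU, hx⟩ := hw
  have : IsAffine U.left := hU
  obtain ⟨F, e, he⟩ := hsp
  obtain ⟨g, hg, -⟩ := isEquivOver_inv he
  let Φ : AlgSt.ofSch U ⥤ᵇ AlgSt.ofSp F.obj := BasedFunctor.comp (AlgSt.toOverCat U) (BasedFunctor.comp x g)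
  let a : (yon S).obj U ⟶ F.obj := spHom Φ
  have hq : ∀ {Q : MorphismProperty (Sp S)}, StableBC Q → AlgSt.RepByAlgSpWith Q x →
      RepBySpWith Q a.hom := fun {Q} hQ hx' =>
    repBySpWith_of_repByAlgSpWith (BasedFunctor.comp x g) (AlgSt.toOverCat U) hQ (isEquivOver_toOverCat U)
      ((repByAlgSpWith_iff_of_square (f := BasedFunctor.comp x g) (f' := x)
        (a := BasedFunctor.id _) (b := g) isEquivOver_id hg (Iso.refl _)).2 hx') (isoOfSpMap Φ)
  have hbc : StableBC (IsFiniteMor (S := S)) := fun _ _ _ _ _ _ _ h4 _ _ _ _ sq h =>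
    (Groth.Agent.AlgSpDec.isFiniteMor_iff_repWith).2
      (repWith_of_isPullback sq ((Groth.Agent.AlgSpDec.isFiniteMor_iff_repWith).1 h))
  have hU' := IsAlgSpace.yon_obj (S := S) U
  have hf : RepWith @IsFinite a := (Groth.Agent.AlgSpDec.isFiniteMor_iff_repWith).1
    (property_of_repBySpWith (isLocalOnBase_fppf_of_fpqc isLocalOnBase_fpqc_isFiniteMor) hU' F.property
      (hq hbc (repByAlgSpWith_mono (fun _ _ _ h => h.1.2) hx)))
  have hfl : RepWith @Flat a := repWith_of_locP F.property hf.rep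
    (locP_of_repBySpWith F.property a (hq stableBC_locP (repByAlgSpWith_mono (fun _ _ _ h => h.1.1.2) hx)))
  have hl : RepWith @LocallyOfFinitePresentation a := repWith_of_locP F.property hf.rep
    (locP_of_repBySpWith F.property a (hq stableBC_locP (repByAlgSpWith_mono (fun _ _ _ h => h.2) hx)))
  have hs : RepWith @Surjective a := repWith_surjective_of_surjective hf.rep
    (isSurjectiveMor_of_repBySpWith F.property a
      (hq stableBC_isSurjectiveMor (repByAlgSpWith_mono (fun _ _ _ h => h.1.1.1) hx)))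
  obtain ⟨Z, hZ, ⟨i⟩⟩ := Groth.Agent.AlgSpDec.exists_affine_iso_of_affine_finLocFree a hfl hl hf hs
  exact ⟨Z, BasedFunctor.comp (AlgSt.ofSpMap i.hom) e, hZ, isEquivOver_comp (isEquivOver_ofSpMap i.hom) he⟩

end Groth.Agent.AlgStLib
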